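import Cfsg.Agent.H448.Van.Good
import Cfsg.Agent.H732.VZ.Close
import Cfsg.Agent.H730.OZ.Top

/-!
# The congruences of S4842 (helper448)

* `dvd_of_one` : `e p^m ≡ #{p-elements of C(z)}` modulo `r`, one character;
* `cong_of_iso`, `Good.cong` : an isolated prime gives `Cong p r 0 G`;
* `cong_of_kconst` : the version with `K`-constancy.
-/

set_option autoImplicit false

namespace Cfsg.Agent.H448.Van

open Cfsg Cfsg.Agent.Characters Finset Cfsg.Agent.H730.OZ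
open Cfsg.Agent.H732.VZ (One Iso dvd_cases)
open Cfsg.Agent.H631.Kaw (pel mem_pel)

universe u

variable {G : Type u} [Group G]

theorem oneZero_iff {χ : IrrCharacter G} : OneZero (χ : G → ℂ) ↔ ∃ x, One χ x :=
  ⟨fun ⟨x, h1, h2⟩ => ⟨x, ⟨h1, h2⟩⟩, fun ⟨x, h⟩ => ⟨x, h.zero, h.uniq⟩⟩

theorem finsum_eq_pel [Finite G] (p : ℕ) (f : G → ℂ) : ∑ᶠ u ∈ pSet p G, f u = ∑ g ∈ pel G p, f g := by
  classical
  have := Fintype.ofFinite G
  rw [finsum_pSet]
  refine Finset.sum_congr ?_ fun _ _ => rfl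
  ext g
  rw [mem_filter, mem_pel]
  exact ⟨fun h => h.2, fun h => ⟨mem_univ _, h⟩⟩

/-- **The congruence** for one character. -/
theorem dvd_of_one [Finite G] {p r : ℕ} (hp : p.Prime) (hr : r.Prime) (hrp : r ≠ p) {z : G} (hz : orderOf z = r)
    (χ : IrrCharacter G) (hrd : ¬ r ∣ charDegree (χ : G → ℂ))
    (hK : ∀ v, Commute z v → (∃ k, orderOf v = p ^ k) → (χ : G → ℂ) (z * v) = (χ : G → ℂ) z) {m : ℕ} {e : ℤ}
    (hm : ∑ᶠ u ∈ pSet p G, (χ : G → ℂ) u = (e : ℂ) * (p : ℂ) ^ m * (χ : G → ℂ) 1) :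
    (r : ℤ) ∣ e * p ^ m - Nat.card {v : G // Commute z v ∧ ∃ k : ℕ, orderOf v = p ^ k} := by
  classical
  have := Fintype.ofFinite G
  rw [finsum_eq_pel] at hm
  set s : G → ℤ := fun g => if g ∈ pel G p then 1 else 0 with hs
  have hs1 : ∀ g x : G, s (g * x * g⁻¹) = s x := by
    intro g y
    simp only [hs]
    have : g * y * g⁻¹ ∈ pel G p ↔ y ∈ pel G p := ⟨fun h => by
      have := H732.Kaw.conj_mem_pel g⁻¹ _ h
      have e : g⁻¹ * (g * y * g⁻¹) * g⁻¹⁻¹ = y := by group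
      rwa [e] at this, H732.Kaw.conj_mem_pel g y⟩
    simp only [this]
  have hs2 : ∀ g, s g ≠ 0 → g ∈ pel G p := by
    intro g hg
    by_contra hgp
    exact hg (by simp only [hs, if_neg hgp])
  have hs3 : ∀ g, s g ≠ 0 → ¬ r ∣ orderOf g := by
    intro g hg hd
    obtain ⟨k, hk⟩ := mem_pel.1 (hs2 g hg)
    rw [hk] at hd
    exact hrp ((Nat.prime_dvd_prime_iff_eq hr hp).1 (hr.dvd_of_dvd_pow hd))
  have hsum : ∑ g, (s g : ℂ) * (χ : G → ℂ) g = ((e * p ^ m : ℤ) : ℂ) * (χ : G → ℂ) 1 := by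
    push_cast
    rw [← hm]
    have : ∀ g : G, (s g : ℂ) * (χ : G → ℂ) g = if g ∈ pel G p then (χ : G → ℂ) g else 0 := by
      intro g
      simp only [hs]
      split_ifs <;> simp
    rw [Finset.sum_congr rfl fun g _ => this g, ← Finset.sum_filter]
    refine Finset.sum_congr ?_ fun _ _ => rfl
    ext g; simp
  have hc1 := H732.VZ.congr hr hz s hs1 hs3 χ hsum (fun v hv hsv => hK v hv (mem_pel.1 (hs2 v hsv))) hrd
  have hcent : ∑ g ∈ univ.filter (Commute z), s g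
      = (Nat.card {v : G // Commute z v ∧ ∃ k : ℕ, orderOf v = p ^ k} : ℤ) := by
    simp only [hs]
    rw [← Finset.sum_filter, Finset.sum_const, nsmul_eq_mul, mul_one, Finset.filter_filter,
      Nat.card_eq_fintype_card, Fintype.card_subtype]
    congr 2
    ext g
    simp only [mem_filter, mem_univ, true_and, mem_pel]
  rw [hcent] at hc1
  exact (Int.modEq_iff_dvd.1 hc1.symm)

/-- **An isolated prime gives the congruence with `k = 0`.** -/
theorem cong_of_iso [Finite G] {p r : ℕ} (hp : p.Prime) (h : Iso G p r) : Cong p r 0 G := by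
  classical
  have := Fintype.ofFinite G
  rintro χ hχ ⟨x, hx0, hx⟩ m e - hm
  obtain ⟨hr, hrp, z, hz, h1, h2, h3, h4⟩ := h
  have hOne : One (⟨χ, hχ⟩ : IrrCharacter G) x := ⟨hx0, hx⟩
  have hrd : ¬ r ∣ charDegree χ := by
    intro hd
    obtain ⟨h5, h6⟩ := dvd_cases hOne hr hz h1 h2 hd
    rcases h4 with h4 | ⟨m, hm1, hm2⟩
    · exact h4 h5
    · exact hm2 (h6 m hm1)
  have h7 := dvd_of_one hp hr hrp hz (⟨χ, hχ⟩ : IrrCharacter G) hrd
    (fun v hv hvp => by rw [h3 v hv hvp, mul_one]) hm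
  have h8 : Nat.card {v : G // Commute z v ∧ ∃ k : ℕ, orderOf v = p ^ k} = 1 := by
    rw [Nat.card_eq_one_iff_unique]
    refine ⟨⟨fun v w => Subtype.ext ?_⟩, ⟨1, Commute.one_right z, 0, by simp⟩⟩
    rw [h3 v.1 v.2.1 v.2.2, h3 w.1 w.2.1 w.2.2]
  rw [h8] at h7
  simpa using h7

/-- a good prime is isolated -/
theorem Good.iso [Finite G] {p r : ℕ} (h : Good G p r) : Iso G p r := by
  obtain ⟨hr, hne, R, z, hcyc, hzR, hz, hC, hcop, h2⟩ := h
  have : Fact r.Prime := ⟨hr⟩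
  refine Iso.of_sylow hne R hcyc hz hzR hC hcop (h2.imp id ?_)
  rintro ⟨i, hi, h3⟩
  exact ⟨i, fun hd => hr.one_lt.ne' (hi.symm.eq_one_of_dvd hd), h3⟩

/-- **Good primes give congruences.** -/
theorem Good.cong [Finite G] {p r : ℕ} (hp : p.Prime) (h : Good G p r) : Cong p r 0 G := cong_of_iso hp h.iso

end Cfsg.Agent.H448.Van
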