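import Cfsg.Agent.H448.Van.GoodE8
import Cfsg.Agent.H448.FprExc.TorC
import Cfsg.Agent.H448.FprExc.RowD4
import Cfsg.Agent.S1063
import Cfsg.Agent.S1064
import Cfsg.Agent.S1066
import Cfsg.Agent.S1067

/-!
# Good primes of `E₆(q)`, `E₇(q)`, `²E₆(q)`, `³D₄(q)` (helper448, S4842)
-/

set_option autoImplicit false

namespace Cfsg.Agent.H448.Van

open Cfsg Cfsg.Lie Subgroup
open Cfsg.Agent.H448.FprExc Cfsg.Agent.H378.ExcAdj Cfsg.Agent.H378.ExcNear
open Cfsg.Agent.BpExc.RowsUntw Cfsg.Agent.BpExc.FamInst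

universe u

/-- `φ(n) ≤ 6` -/
theorem le_of_totient_six {n : ℕ} (hn : 0 < n) (h : n.totient ≤ 6) : n ≤ 18 :=
  Cfsg.Agent.H448.FprExc.le_of_totient_six hn h

/-- primes `≡ 1 (mod d)`, `r ≤ b`, for small bounds -/
theorem ge_of_mod {r d : ℕ} (hr : r.Prime) (h : d ∣ r - 1) : ∃ c, 0 < c ∧ r = d * c + 1 := by
  obtain ⟨c, hc⟩ := h
  have h2 := hr.two_le
  refine ⟨c, Nat.pos_of_ne_zero ?_, by omega⟩
  rintro rfl
  omega

theorem coprime_pow_of_dvd {p a N : ℕ} (ha : 0 < a) (h : (p ^ a).Coprime N) : p.Coprime N :=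
  Nat.Coprime.coprime_dvd_left (dvd_pow_self p ha.ne') h

theorem coprime_sq_mul {q : ℕ} (hq : 2 ≤ q) : q.Coprime ((q ^ 2 - 1) * (q ^ 4 + 1)) := by
  have hq4 : 4 ≤ q ^ 2 := by nlinarith
  refine Nat.Coprime.mul_right ?_ ?_
  · have h : q.Coprime (q * q - 1) := by
      rw [Nat.coprime_comm]
      refine Nat.Coprime.coprime_mul_right_right (k := q) (Nat.coprime_self_sub_left ?_ |>.2 (Nat.coprime_one_left _))
      nlinarith
    rwa [← sq] at h
  · have e : q ^ 4 + 1 = q * q ^ 3 + 1 := by ring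
    rw [e]
    simp

theorem no_dvd_of_sq {q r d : ℕ} (hq : 3 ≤ q) (h1 : r ≤ q ^ 4 + 1) (hr : 0 < r) (hd : d ≤ 3 ∧ 0 < d) :
    ¬ (q ^ 2 - 1) * (q ^ 4 + 1) ∣ d * r := by
  intro h
  have h2 := Nat.le_of_dvd (Nat.mul_pos hd.2 hr) h
  have h9 : 9 ≤ q ^ 2 := by nlinarith
  have h3 : d * r ≤ 3 * (q ^ 4 + 1) := Nat.mul_le_mul hd.1 h1
  have h4 : 8 * (q ^ 4 + 1) ≤ (q ^ 2 - 1) * (q ^ 4 + 1) := Nat.mul_le_mul_right _ (by omega)
  omega

section E6

variable {F : Type u} [Field F] [Fintype F]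

/-- **`E₆(q)`**, the primes of order 9 -/
theorem good_E6_9 {p a : ℕ} (hpp : p.Prime) (ha : 0 < a) (hF : Fintype.card F = p ^ a) :
    ∃ r, Good ↥(chevE6.group F) p r ∧ orderOf (p : ZMod r) = a * 9 := by
  have ham : 9 ≤ a * 9 := Nat.le_mul_of_pos_left 9 ha
  obtain ⟨r, hr, hrp, h1, h2, h4⟩ := exists_prim (a := a) (d := 9) hpp ha (by omega) (by omega)
  have : Fact r.Prime := ⟨hr⟩
  obtain ⟨q, hq⟩ : ∃ q, q = p ^ a := ⟨_, rfl⟩
  rw [← hq] at h2 hF
  have hq2 : 2 ≤ q := by rw [← hF]; exact Fintype.one_lt_card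
  have hrN : r ∣ q ^ 6 + q ^ 3 + 1 := FprExc.dvd_9 h2 (N := q ^ 6 + q ^ 3 + 1) (by push_cast; ring)
  obtain ⟨T, hT, hT1, hT2, hcent⟩ := FprExc.torus9 hF (N := q ^ 6 + q ^ 3 + 1) (by push_cast; ring) hr (by omega) hrN
  refine ⟨r, good_of_card hr hT hT1 hT2 hrN (fun h => ?_) ?_ hcent ?_, h1⟩
  · have := Nat.le_of_dvd (by norm_num) h
    omega
  · apply coprime_pow_of_dvd ha
    rw [← hq]
    have e : q ^ 6 + q ^ 3 + 1 = q * (q ^ 5 + q ^ 2) + 1 := by ring
    rw [e]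
    simp
  · by_cases h5 : 19 < r
    · refine Or.inr fun x hx _ => ?_
      refine exists_not_conj_untw (b := 18) e6T hr (m := 9) (by rw [Nat.card_eq_fintype_card, hF]; exact h2)
        (by decide) (by omega) (fun n hn h => le_of_totient_six hn h) h5 hx
    · refine Or.inl fun h => ?_
      have h6 := Nat.le_of_dvd (by omega) h
      have h7 : 2 ^ 6 ≤ q ^ 6 := Nat.pow_le_pow_left hq2 6
      omega

/-- **`E₆(q)`**, the primes of order 8 -/
theorem good_E6_8 {p a : ℕ} (hpp : p.Prime) (ha : 0 < a) (hF : Fintype.card F = p ^ a) :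
    ∃ r, Good ↥(chevE6.group F) p r ∧ orderOf (p : ZMod r) = a * 8 := by
  have ham : 8 ≤ a * 8 := Nat.le_mul_of_pos_left 8 ha
  obtain ⟨r, hr, hrp, h1, h2, h4⟩ := exists_prim (a := a) (d := 8) hpp ha (by omega) (by omega)
  have : Fact r.Prime := ⟨hr⟩
  obtain ⟨q, hq⟩ : ∃ q, q = p ^ a := ⟨_, rfl⟩
  rw [← hq] at h2 hF
  have hq2 : 2 ≤ q := by rw [← hF]; exact Fintype.one_lt_card
  have hrN : r ∣ q ^ 4 + 1 := FprExc.dvd_8 h2 (N := q ^ 4 + 1) (by push_cast; ring)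
  have hq4 : 4 ≤ q ^ 2 := by nlinarith
  have hM : ((((q ^ 2 - 1) * (q ^ 4 + 1) : ℕ)) : ℤ) = -1 + (q : ℤ) ^ 2 - (q : ℤ) ^ 4 + (q : ℤ) ^ 6 := by
    push_cast [Nat.cast_sub (show 1 ≤ q ^ 2 by omega)]
    ring
  obtain ⟨T, hT, hT1, hT2, hcent⟩ := FprExc.torus8 hF (N := q ^ 4 + 1) (by push_cast; ring) hM hr (by omega) hrN
  refine ⟨r, good_of_card hr hT hT1 hT2 (hrN.mul_left _) (fun h => ?_) ?_ hcent ?_, h1⟩
  · have := Nat.le_of_dvd (by norm_num) h
    omega
  · apply coprime_pow_of_dvd ha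
    rw [← hq]
    exact coprime_sq_mul hq2
  · rcases Nat.lt_or_ge q 3 with hq3 | hq3
    · have hq' : q = 2 := by omega
      subst hq'
      have hr17 : r = 17 := (Nat.prime_dvd_prime_iff_eq hr (by norm_num)).1 (by simpa using hrN)
      subst hr17
      refine Or.inr fun x hx hc => ?_
      have hG := Cfsg.Agent.S1063.result hF
      have e : Nat.gcd 3 (2 - 1) = 1 := by decide
      rw [e, one_mul] at hG
      exact exists_not_conj_of_card (by norm_num) hx hc (m := 12637739736588563251200) (by rw [hG]; norm_num)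
        (by norm_num)
    · refine Or.inl fun h => ?_
      exact no_dvd_of_sq hq3 (Nat.le_of_dvd (by omega) hrN) (by omega) (by norm_num) h

end E6

section E7

variable {F : Type u} [Field F] [Fintype F]

/-- the polynomial `Φ₇` and friends as natural numbers -/
theorem exists_N14 {q : ℕ} (hq : 2 ≤ q) : ∃ N : ℕ, (N : ℤ) = 1 - (q : ℤ) + (q : ℤ) ^ 2 - (q : ℤ) ^ 3 + (q : ℤ) ^ 4 -
    (q : ℤ) ^ 5 + (q : ℤ) ^ 6 ∧ 0 < N := by
  obtain ⟨a, rfl⟩ : ∃ a, q = a + 2 := ⟨q - 2, by omega⟩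
  exact ⟨1 + (a + 1) * (a + 2) + (a + 1) * (a + 2) ^ 3 + (a + 1) * (a + 2) ^ 5, by push_cast; ring, by positivity⟩

theorem exists_N18 {q : ℕ} (hq : 2 ≤ q) : ∃ N : ℕ, (N : ℤ) = 1 - (q : ℤ) ^ 3 + (q : ℤ) ^ 6 ∧ 0 < N := by
  obtain ⟨a, rfl⟩ : ∃ a, q = a + 2 := ⟨q - 2, by omega⟩
  exact ⟨1 + (a + 2) ^ 3 * (a * (a ^ 2 + 6 * a + 12) + 7), by push_cast; ring, by positivity⟩

/-- **`E₇(q)`**, the primes of order 14 -/
theorem good_E7_14 {p a : ℕ} (hpp : p.Prime) (ha : 0 < a) (hF : Fintype.card F = p ^ a) :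
    ∃ r, Good ↥(chevE7.group F) p r ∧ orderOf (p : ZMod r) = a * 14 := by
  have ham : 14 ≤ a * 14 := Nat.le_mul_of_pos_left 14 ha
  obtain ⟨r, hr, hrp, h1, h2, h4⟩ := exists_prim (a := a) (d := 14) hpp ha (by omega) (by omega)
  have : Fact r.Prime := ⟨hr⟩
  obtain ⟨q, hq⟩ : ∃ q, q = p ^ a := ⟨_, rfl⟩
  rw [← hq] at h2 hF
  have hq2 : 2 ≤ q := by rw [← hF]; exact Fintype.one_lt_card
  obtain ⟨N, hN, hN0⟩ := exists_N14 hq2
  have hrN : r ∣ N := FprExc.dvd_14 h2 hN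
  obtain ⟨T, hT, hT1, hT2, hcent⟩ := FprExc.torus14 hF hN hr (by omega) hrN
  refine ⟨r, good_of_card hr hT hT1 hT2 (hrN.mul_left _) (fun h => ?_) ?_ hcent (Or.inl fun h => ?_), h1⟩
  · have := Nat.le_of_dvd (by norm_num) h
    omega
  · apply coprime_pow_of_dvd ha
    rw [← hq]
    exact Cfsg.Agent.H129.UntwData.coprime_of_eq (a := (q : ℤ) ^ 6) (by push_cast; rw [hN]; ring)
  · have h5 := Nat.le_of_dvd (by omega) h
    have h6 := Nat.le_of_dvd hN0 hrN
    have h7 : 3 * N ≤ (q + 1) * N := Nat.mul_le_mul_right _ (by omega)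
    omega

/-- **`E₇(q)`**, the primes of order 18 -/
theorem good_E7_18 {p a : ℕ} (hpp : p.Prime) (ha : 0 < a) (hF : Fintype.card F = p ^ a) :
    ∃ r, Good ↥(chevE7.group F) p r ∧ orderOf (p : ZMod r) = a * 18 := by
  have ham : 18 ≤ a * 18 := Nat.le_mul_of_pos_left 18 ha
  obtain ⟨r, hr, hrp, h1, h2, h4⟩ := exists_prim (a := a) (d := 18) hpp ha (by omega) (by omega)
  have : Fact r.Prime := ⟨hr⟩
  obtain ⟨q, hq⟩ : ∃ q, q = p ^ a := ⟨_, rfl⟩
  rw [← hq] at h2 hF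
  have hq2 : 2 ≤ q := by rw [← hF]; exact Fintype.one_lt_card
  obtain ⟨N, hN, hN0⟩ := exists_N18 hq2
  have hrN : r ∣ N := FprExc.dvd_18 h2 hN
  obtain ⟨T, hT, hT1, hT2, hcent⟩ := FprExc.torus18 hF hN hr (by omega) hrN
  refine ⟨r, good_of_card hr hT hT1 hT2 (hrN.mul_left _) (fun h => ?_) ?_ hcent (Or.inl fun h => ?_), h1⟩
  · have := Nat.le_of_dvd (by norm_num) h
    omega
  · apply coprime_pow_of_dvd ha
    rw [← hq]
    exact Cfsg.Agent.H129.UntwData.coprime_of_eq (a := 1 - (q : ℤ) ^ 2 - (q : ℤ) ^ 3 + (q : ℤ) ^ 5 + (q : ℤ) ^ 6)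
      (by push_cast; rw [hN]; ring)
  · have h5 := Nat.le_of_dvd (by omega) h
    have h6 := Nat.le_of_dvd hN0 hrN
    have h7 : 3 * N ≤ (q + 1) * N := Nat.mul_le_mul_right _ (by omega)
    omega

/-- **`E₇(q)`**, the primes of order 7 -/
theorem good_E7_7 {p a : ℕ} (hpp : p.Prime) (ha : 0 < a) (hF : Fintype.card F = p ^ a) :
    ∃ r, Good ↥(chevE7.group F) p r ∧ orderOf (p : ZMod r) = a * 7 := by
  have ham : 7 ≤ a * 7 := Nat.le_mul_of_pos_left 7 ha
  obtain ⟨r, hr, hrp, h1, h2, h4⟩ := exists_prim (a := a) (d := 7) hpp ha (by omega) (by omega)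
  have : Fact r.Prime := ⟨hr⟩
  obtain ⟨q, hq⟩ : ∃ q, q = p ^ a := ⟨_, rfl⟩
  rw [← hq] at h2 hF
  have hq2 : 2 ≤ q := by rw [← hF]; exact Fintype.one_lt_card
  obtain ⟨N, hN⟩ : ∃ N, N = 1 + q + q ^ 2 + q ^ 3 + q ^ 4 + q ^ 5 + q ^ 6 := ⟨_, rfl⟩
  have hN' : (N : ℤ) = 1 + (q : ℤ) + (q : ℤ) ^ 2 + (q : ℤ) ^ 3 + (q : ℤ) ^ 4 + (q : ℤ) ^ 5 + (q : ℤ) ^ 6 := by
    rw [hN]; push_cast; ring
  have hrN : r ∣ N := FprExc.dvd_7 h2 hN'
  have hM : ((((q - 1) * N : ℕ)) : ℤ) = -1 + (q : ℤ) ^ 7 := by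
    push_cast [Nat.cast_sub (show 1 ≤ q by omega)]
    rw [hN']
    ring
  have h8 : 8 < r := by
    have h5 := mod_of_od hr (show Cfsg.Agent.H378.ExcAdj.od q r = 7 from h2) (by norm_num)
    obtain ⟨c, hc, rfl⟩ := ge_of_mod hr h5
    rcases c with _ | _ | c
    · omega
    · exact absurd hr (by norm_num)
    · omega
  obtain ⟨T, hT, hT1, hT2, hcent⟩ := FprExc.torus7 hF hN' hM hr h8 hrN
  refine ⟨r, good_of_card hr hT hT1 hT2 (hrN.mul_left _) (fun h => ?_) ?_ hcent ?_, h1⟩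
  · have := Nat.le_of_dvd (by norm_num) h
    omega
  · apply coprime_pow_of_dvd ha
    rw [← hq]
    refine Nat.Coprime.mul_right ?_ ?_
    · rw [Nat.coprime_comm]
      exact (Nat.coprime_self_sub_left (by omega)).2 (Nat.coprime_one_left _)
    · have e : N = q * (1 + q + q ^ 2 + q ^ 3 + q ^ 4 + q ^ 5) + 1 := by rw [hN]; ring
      rw [e]
      simp
  · rcases Nat.lt_or_ge q 4 with hq4 | hq4
    · have hq23 : q = 2 ∨ q = 3 := by omega
      have hG := Cfsg.Agent.S1064.result hF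
      refine Or.inr fun x hx hc => ?_
      rcases hq23 with rfl | rfl
      · have hr17 : r = 127 := (Nat.prime_dvd_prime_iff_eq hr (by norm_num)).1 (by rw [hN] at hrN; simpa using hrN)
        subst hr17
        have e : Nat.gcd 2 (2 - 1) = 1 := by decide
        rw [e, one_mul] at hG
        exact exists_not_conj_of_card (by norm_num) hx hc (m := 62972252299809446922051080808510259200)
          (by rw [hG]; norm_num) (by norm_num)
      · have hr17 : r = 1093 := (Nat.prime_dvd_prime_iff_eq hr (by norm_num)).1 (by rw [hN] at hrN; simpa using hrN)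
        subst hr17
        have e : Nat.gcd 2 (3 - 1) = 2 := by decide
        rw [e] at hG
        have h3 : 2 * Nat.card ↥(chevE7.group F) =
            2 * (1093 * 1163197837893995189607026304793249446069880332818633352806400) := by rw [hG]; norm_num
        exact exists_not_conj_of_card (by norm_num) hx hc
          (m := 1163197837893995189607026304793249446069880332818633352806400)
          (Nat.eq_of_mul_eq_mul_left (by norm_num) h3) (by norm_num)
    · refine Or.inl fun h => ?_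
      have h5 := Nat.le_of_dvd (by omega) h
      have h6 := Nat.le_of_dvd (by rw [hN]; positivity) hrN
      have h7 : 3 * N ≤ (q - 1) * N := Nat.mul_le_mul_right _ (by omega)
      omega

end E7

section TE6

variable {K : Type u} [Field K] [Fintype K] {q : ℕ}

/-- **`²E₆(q)`**, the primes of order 18 -/
theorem good_2E6_18 {p a : ℕ} (hpp : p.Prime) (ha : 0 < a) (hqa : q = p ^ a) (hK : Fintype.card K = q ^ 2) :
    ∃ r, Good ↥(twistedE6 K q) p r ∧ orderOf (p : ZMod r) = a * 18 := by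
  have ham : 18 ≤ a * 18 := Nat.le_mul_of_pos_left 18 ha
  obtain ⟨r, hr, hrp, h1, h2, h4⟩ := exists_prim (a := a) (d := 18) hpp ha (by omega) (by omega)
  have : Fact r.Prime := ⟨hr⟩
  rw [← hqa] at h2
  have hqp : IsPrimePow q := by rw [hqa]; exact hpp.isPrimePow.pow ha.ne'
  have hq2 : 2 ≤ q := hqp.two_le
  have h3 : Nat.gcd 3 (q + 1) ≤ 3 := Nat.gcd_le_left _ (by norm_num)
  have h30 : 0 < Nat.gcd 3 (q + 1) := Nat.gcd_pos_of_pos_left _ (by norm_num)
  obtain ⟨N, hN, hN0⟩ := exists_N18 hq2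
  have hrN : r ∣ N := FprExc.dvd_18 h2 hN
  obtain ⟨T, hT, hT1, hT2, hcent⟩ := FprExc.torusT18 hqp hK hN hr (by omega) hrN
  refine ⟨r, good_of_card hr hT hT1 hT2 hrN (fun h => ?_) ?_ hcent ?_, h1⟩
  · have := Nat.le_of_dvd h30 h
    omega
  · apply coprime_pow_of_dvd ha
    rw [← hqa]
    exact Cfsg.Agent.H129.UntwData.coprime_of_eq (a := - (q : ℤ) ^ 2 + (q : ℤ) ^ 5) (by rw [hN]; ring)
  · by_cases h5 : 19 < r
    · refine Or.inr fun x hx _ => ?_
      obtain ⟨n, hn, h6, h7, h8⟩ := nc_2E6 hqp hK hx h2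
      have h9 := le_of_totient_six hn h8
      exact exists_not_conj hr hx h6 (by omega)
    · rcases Nat.lt_or_ge q 3 with hq3 | hq3
      · have hq' : q = 2 := by omega
        have hr19 : r = 19 := by omega
        rw [hr19] at *
        refine Or.inr fun x hx hc => ?_
        have hG := Cfsg.Agent.S1066.result hqp hK
        rw [hq'] at hG
        have e : Nat.gcd 3 (2 + 1) = 3 := by decide
        rw [e] at hG
        have h6 : 3 * Nat.card ↥(twistedE6 K 2) = 3 * (19 * 4028025246514465996800) := by rw [hG]; norm_num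
        have h7 : Nat.card ↥(twistedE6 K q) = 19 * 4028025246514465996800 := by
          rw [hq']
          exact Nat.eq_of_mul_eq_mul_left (by norm_num) h6
        exact exists_not_conj_of_card (by norm_num) hx hc h7 (by norm_num)
      · refine Or.inl fun h => ?_
        have h6 := Nat.le_of_dvd (Nat.mul_pos h30 hr.pos) h
        have h7 : Nat.gcd 3 (q + 1) * r ≤ 3 * 19 := Nat.mul_le_mul h3 (by omega)
        have h8 : (27 : ℤ) ≤ (q : ℤ) ^ 3 := by
          have : 3 ^ 3 ≤ q ^ 3 := Nat.pow_le_pow_left hq3 3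
          exact_mod_cast this
        have h9 : (N : ℤ) = 1 + (q : ℤ) ^ 3 * ((q : ℤ) ^ 3 - 1) := by rw [hN]; ring
        have h10 : (27 : ℤ) * 26 ≤ (q : ℤ) ^ 3 * ((q : ℤ) ^ 3 - 1) :=
          mul_le_mul h8 (by linarith) (by norm_num) (by linarith)
        omega

/-- **`²E₆(q)`**, the primes of order 8 -/
theorem good_2E6_8 {p a : ℕ} (hpp : p.Prime) (ha : 0 < a) (hqa : q = p ^ a) (hK : Fintype.card K = q ^ 2) :
    ∃ r, Good ↥(twistedE6 K q) p r ∧ orderOf (p : ZMod r) = a * 8 := by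
  have ham : 8 ≤ a * 8 := Nat.le_mul_of_pos_left 8 ha
  obtain ⟨r, hr, hrp, h1, h2, h4⟩ := exists_prim (a := a) (d := 8) hpp ha (by omega) (by omega)
  have : Fact r.Prime := ⟨hr⟩
  rw [← hqa] at h2
  have hqp : IsPrimePow q := by rw [hqa]; exact hpp.isPrimePow.pow ha.ne'
  have hq2 : 2 ≤ q := hqp.two_le
  have h3 : Nat.gcd 3 (q + 1) ≤ 3 := Nat.gcd_le_left _ (by norm_num)
  have h30 : 0 < Nat.gcd 3 (q + 1) := Nat.gcd_pos_of_pos_left _ (by norm_num)
  have hrN : r ∣ q ^ 4 + 1 := FprExc.dvd_8 h2 (N := q ^ 4 + 1) (by push_cast; ring)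
  have hq4 : 4 ≤ q ^ 2 := by nlinarith
  have hM : ((((q ^ 2 - 1) * (q ^ 4 + 1) : ℕ)) : ℤ) = -1 + (q : ℤ) ^ 2 - (q : ℤ) ^ 4 + (q : ℤ) ^ 6 := by
    push_cast [Nat.cast_sub (show 1 ≤ q ^ 2 by omega)]
    ring
  obtain ⟨T, hT, hT1, hT2, hcent⟩ := FprExc.torusT8 hqp hK (N := q ^ 4 + 1) (by push_cast; ring) hM hr (by omega) hrN
  refine ⟨r, good_of_card hr hT hT1 hT2 (hrN.mul_left _) (fun h => ?_) ?_ hcent ?_, h1⟩
  · have := Nat.le_of_dvd h30 h
    omega
  · apply coprime_pow_of_dvd ha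
    rw [← hqa]
    exact coprime_sq_mul hq2
  · rcases Nat.lt_or_ge q 3 with hq3 | hq3
    · have hq' : q = 2 := by omega
      have hr17 : r = 17 := (Nat.prime_dvd_prime_iff_eq hr (by norm_num)).1 (by rw [hq'] at hrN; simpa using hrN)
      rw [hr17] at *
      refine Or.inr fun x hx hc => ?_
      have hG := Cfsg.Agent.S1066.result hqp hK
      rw [hq'] at hG
      have e : Nat.gcd 3 (2 + 1) = 3 := by decide
      rw [e] at hG
      have h6 : 3 * Nat.card ↥(twistedE6 K 2) = 3 * (17 * 4501910569633814937600) := by rw [hG]; norm_num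
      have h7 : Nat.card ↥(twistedE6 K q) = 17 * 4501910569633814937600 := by
        rw [hq']
        exact Nat.eq_of_mul_eq_mul_left (by norm_num) h6
      exact exists_not_conj_of_card (by norm_num) hx hc h7 (by norm_num)
    · refine Or.inl fun h => ?_
      exact no_dvd_of_sq hq3 (Nat.le_of_dvd (by omega) hrN) (by omega) ⟨h3, h30⟩ h

end TE6

section TD4

variable {K : Type u} [Field K] [Fintype K] {q : ℕ}

/-- **`³D₄(q)`**, the primes of order 12 -/
theorem good_3D4_12 {p a : ℕ} (hpp : p.Prime) (ha : 0 < a) (hqa : q = p ^ a) (hK : Fintype.card K = q ^ 3) :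
    ∃ r, Good ↥(twistedD4 K q) p r ∧ orderOf (p : ZMod r) = a * 12 := by
  have ham : 12 ≤ a * 12 := Nat.le_mul_of_pos_left 12 ha
  obtain ⟨r, hr, hrp, h1, h2, h4⟩ := exists_prim (a := a) (d := 12) hpp ha (by omega) (by omega)
  have : Fact r.Prime := ⟨hr⟩
  rw [← hqa] at h2
  have hqp : IsPrimePow q := by rw [hqa]; exact hpp.isPrimePow.pow ha.ne'
  have hq2 : 2 ≤ q := hqp.two_le
  obtain ⟨N, hN, hN0, hN1⟩ := FprExc.exists_N12 hq2
  have hrN : r ∣ N := FprExc.dvd_12 h2 hN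
  obtain ⟨T, hT, hT1, hcent⟩ := FprExc.torusD hqp hK hN hr (by omega) hrN
  refine ⟨r, good_of_card hr (d := 1) hT (hT1 ▸ dvd_rfl) (by rw [hT1, one_mul]) hrN (fun h => ?_) ?_ hcent ?_, h1⟩
  · have := Nat.le_of_dvd (by norm_num) h
    omega
  · apply coprime_pow_of_dvd ha
    rw [← hqa]
    exact Cfsg.Agent.H129.UntwData.coprime_of_eq (a := - (q : ℤ) + (q : ℤ) ^ 3) (by rw [hN]; ring)
  · by_cases h5 : 13 < r
    · refine Or.inr fun x hx _ => ?_
      obtain ⟨n, hn, h6, h7, h8, -⟩ := nc_3D4 hqp hK hx h2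
      have h9 := le_of_totient_four hn h8
      exact exists_not_conj hr hx h6 (by omega)
    · rcases Nat.lt_or_ge q 3 with hq3 | hq3
      · have hq' : q = 2 := by omega
        have hr19 : r = 13 := by omega
        rw [hr19] at *
        refine Or.inr fun x hx hc => ?_
        have hG := Cfsg.Agent.S1067.result hqp hK
        rw [hq'] at hG
        have h7 : Nat.card ↥(twistedD4 K q) = 13 * 16257024 := by
          rw [hq', hG]; norm_num
        exact exists_not_conj_of_card (by norm_num) hx hc h7 (by norm_num)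
      · refine Or.inl fun h => ?_
        rw [one_mul] at h
        have h6 := Nat.le_of_dvd hr.pos h
        have h8 : 9 ≤ q ^ 2 := by nlinarith
        have h9 : q ^ 4 = q ^ 2 * q ^ 2 := by ring
        have h10 : 9 * q ^ 2 ≤ q ^ 4 := by rw [h9]; exact Nat.mul_le_mul_right _ h8
        omega

end TD4

end Cfsg.Agent.H448.Van
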