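import Cfsg.Agent.H448.Van.Arith
import Cfsg.Agent.H448.Van.Cong
import Cfsg.Agent.H448.Van.GoodEx
import Cfsg.Agent.S1065

/-!
# S4842: the rows `E₆`, `E₇`, `²E₆` (helper448)

`none_E6`, `none_E7`, `none_2E6` : no irreducible character vanishes on exactly one class, from `Kaw p G`.
-/

set_option autoImplicit false

namespace Cfsg.Agent.H448.Van

open Cfsg Cfsg.Lie Cfsg.Agent.Characters Finset Cfsg.Agent.H730.OZ

universe u

/-- no irreducible character vanishes on exactly one class -/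
def NoOne (G : Type u) [Group G] : Prop := ∀ χ : G → ℂ, IsIrrCharacter G χ → ¬ OneZero χ

theorem gcd_coprime {p a g : ℕ} (hp : p.Prime) (ha : 0 < a) (hg : g ∣ p ^ a - 1 ∨ g ∣ p ^ a + 1) : ¬ p ∣ g := by
  intro h
  have h1 : p ∣ p ^ a := dvd_pow_self p ha.ne'
  have h5 : 1 ≤ p ^ a := Nat.one_le_pow _ _ hp.pos
  rcases hg with hg | hg
  · have h6 := (Nat.dvd_sub_iff_right h5 h1).1 (h.trans hg)
    exact hp.one_lt.ne' (Nat.dvd_one.1 h6)
  · have h6 := (Nat.dvd_add_right h1).1 (h.trans hg)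
    exact hp.one_lt.ne' (Nat.dvd_one.1 h6)

/-- the consequences of the congruences -/
theorem ords {G : Type u} [Group G] [Finite G] {p r D m : ℕ} {e : ℤ} (hp : p.Prime) (hg : Good G p r)
    (hord : orderOf (p : ZMod r) = D) (hD : 3 ≤ D)
    (hc : ∀ r k : ℕ, Cong p r k G → (r : ℤ) ∣ e * (p : ℤ) ^ m - (p : ℤ) ^ k) (he : e = 1 ∨ e = -1) :
    D ∣ 2 * m ∧ (e = -1 → ¬ D ∣ m) ∧ (e = 1 → D ∣ m) := by
  have h1 := hc r 0 (hg.cong hp)
  have : Fact r.Prime := ⟨hg.prime⟩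
  have hr : 2 < r := by
    have h2 : orderOf (p : ZMod r) ∣ r - 1 := by
      apply orderOf_dvd_of_pow_eq_one
      apply ZMod.pow_card_sub_one_eq_one
      intro h3
      rw [h3] at hord
      have h4 : orderOf (0 : ZMod r) = 0 := orderOf_eq_zero_iff'.2 fun n hn h => by
        rw [zero_pow hn.ne'] at h
        exact zero_ne_one h
      omega
    have h3 := hg.prime.two_le
    have h4 := Nat.le_of_dvd (by omega) h2
    omega
  rcases he with rfl | rfl
  · have h2 := ord_one hord h1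
    exact ⟨h2.mul_left 2, fun h => absurd h (by norm_num), fun _ => h2⟩
  · obtain ⟨h2, h3⟩ := ord_neg hord h1
    exact ⟨h2, fun _ => h3 hr, fun h => absurd h (by norm_num)⟩

section E6

variable {F : Type u} [Field F] [Fintype F] {p a : ℕ}

/-- **`E₆(q)`** -/
theorem none_E6 (hs : IsSimpleGroup ↥(chevE6.group F)) (hp : p.Prime) (ha : 0 < a) (hF : Fintype.card F = p ^ a)
    (hK : Kaw p ↥(chevE6.group F)) : NoOne ↥(chevE6.group F) := by
  intro χ hχ
  have hG := Cfsg.Agent.S1063.result hF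
  have hL : (([2, 5, 6, 8, 9, 12] : List ℕ).map fun d => (p ^ a) ^ d - 1).prod = ((p ^ a) ^ 2 - 1) * ((p ^ a) ^ 5 - 1) *
      ((p ^ a) ^ 6 - 1) * ((p ^ a) ^ 8 - 1) * ((p ^ a) ^ 9 - 1) * ((p ^ a) ^ 12 - 1) := by
    simp only [List.map_cons, List.map_nil, List.prod_cons, List.prod_nil, mul_one, mul_assoc]
  have hG' : Nat.gcd 3 (p ^ a - 1) * Nat.card ↥(chevE6.group F) =
      p ^ (36 * a) * (([2, 5, 6, 8, 9, 12] : List ℕ).map fun d => (p ^ a) ^ d - 1).prod := by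
    rw [hG, hL]
    simp only [← pow_mul]
    rw [mul_comm a 36]
    ring
  have hv : (Nat.card ↥(chevE6.group F)).factorization p = 36 * a :=
    fact_of hp (gcd_coprime hp ha (Or.inl (Nat.gcd_dvd_right _ _)))
      (not_dvd_prod hp ha (fun d hd => by simp at hd; omega)) Nat.card_pos.ne' hG'
  obtain ⟨r, hr, hro⟩ := good_E6_9 hp ha hF
  obtain ⟨s, hs', hso⟩ := good_E6_8 hp ha hF
  refine none_of_cong hs hp hv (by omega) hK ?_ ?_ hχ
  · rw [show 2 * (36 * a) = a * 72 by ring]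
    refine not_dvd_card hp ha (by norm_num) (N := 36 * a) (L := [2, 5, 6, 8, 9, 12]) ?_ (fun d hd => by simp at hd; omega)
    rw [← hG']
    exact dvd_mul_left _ _
  · intro m e he hm hm2 hc
    obtain ⟨h1, h2, h3⟩ := ords hp hr hro (by omega) hc he
    obtain ⟨h4, h5, h6⟩ := ords hp hs' hso (by omega) hc he
    exact mid_E6 ha hm (by omega) (Or.inl rfl) h1 h4 h2 (fun h => ⟨h3 h, h6 h⟩) he

end E6

section E7

variable {F : Type u} [Field F] [Fintype F] {p a : ℕ}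

/-- **`E₇(q)`** -/
theorem none_E7 (hs : IsSimpleGroup ↥(chevE7.group F)) (hp : p.Prime) (ha : 0 < a) (hF : Fintype.card F = p ^ a)
    (hK : Kaw p ↥(chevE7.group F)) : NoOne ↥(chevE7.group F) := by
  intro χ hχ
  have hG := Cfsg.Agent.S1064.result hF
  have hL : (([2, 6, 8, 10, 12, 14, 18] : List ℕ).map fun d => (p ^ a) ^ d - 1).prod = ((p ^ a) ^ 2 - 1) *
      ((p ^ a) ^ 6 - 1) * ((p ^ a) ^ 8 - 1) * ((p ^ a) ^ 10 - 1) * ((p ^ a) ^ 12 - 1) * ((p ^ a) ^ 14 - 1) *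
      ((p ^ a) ^ 18 - 1) := by
    simp only [List.map_cons, List.map_nil, List.prod_cons, List.prod_nil, mul_one, mul_assoc]
  have hG' : Nat.gcd 2 (p ^ a - 1) * Nat.card ↥(chevE7.group F) =
      p ^ (63 * a) * (([2, 6, 8, 10, 12, 14, 18] : List ℕ).map fun d => (p ^ a) ^ d - 1).prod := by
    rw [hG, hL]
    simp only [← pow_mul]
    rw [mul_comm a 63]
    ring
  have hv : (Nat.card ↥(chevE7.group F)).factorization p = 63 * a :=
    fact_of hp (gcd_coprime hp ha (Or.inl (Nat.gcd_dvd_right _ _)))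
      (not_dvd_prod hp ha (fun d hd => by simp at hd; omega)) Nat.card_pos.ne' hG'
  obtain ⟨r, hr, hro⟩ := good_E7_7 hp ha hF
  obtain ⟨s, hs', hso⟩ := good_E7_18 hp ha hF
  refine none_of_cong hs hp hv (by omega) hK ?_ ?_ hχ
  · rw [show 2 * (63 * a) = a * 126 by ring]
    refine not_dvd_card hp ha (by norm_num) (N := 63 * a) (L := [2, 6, 8, 10, 12, 14, 18]) ?_
      (fun d hd => by simp at hd; omega)
    rw [← hG']
    exact dvd_mul_left _ _
  · intro m e he hm hm2 hc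
    obtain ⟨h1, h2, h3⟩ := ords hp hr hro (by omega) hc he
    obtain ⟨h4, h5, h6⟩ := ords hp hs' hso (by omega) hc he
    exact mid_E7 ha hm (by omega) h1 h4 h2 (fun h => ⟨h3 h, h6 h⟩) he

end E7

section TE6

variable {K : Type u} [Field K] [Fintype K] {p a q : ℕ}

/-- **`²E₆(q)`** -/
theorem none_2E6 (hs : IsSimpleGroup ↥(twistedE6 K q)) (hp : p.Prime) (ha : 0 < a) (hq : q = p ^ a)
    (hF : Fintype.card K = q ^ 2) (hK : Kaw p ↥(twistedE6 K q)) : NoOne ↥(twistedE6 K q) := by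
  intro χ hχ
  have hqp : IsPrimePow q := by rw [hq]; exact hp.isPrimePow.pow ha.ne'
  have hG := Cfsg.Agent.S1066.result hqp hF
  have hL : (([2, 10, 6, 8, 18, 12] : List ℕ).map fun d => (p ^ a) ^ d - 1).prod = ((p ^ a) ^ 2 - 1) *
      ((p ^ a) ^ 10 - 1) * ((p ^ a) ^ 6 - 1) * ((p ^ a) ^ 8 - 1) * ((p ^ a) ^ 18 - 1) * ((p ^ a) ^ 12 - 1) := by
    simp only [List.map_cons, List.map_nil, List.prod_cons, List.prod_nil, mul_one, mul_assoc]
  have hsq : ∀ j, q ^ (2 * j) - 1 = (q ^ j - 1) * (q ^ j + 1) := by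
    intro j
    have h1 : 1 ≤ q ^ j := Nat.one_le_pow _ _ hqp.pos
    obtain ⟨c, hc⟩ : ∃ c, q ^ j = c + 1 := ⟨q ^ j - 1, by omega⟩
    rw [mul_comm 2 j, pow_mul, hc, Nat.add_sub_cancel, show (c + 1) ^ 2 = c * (c + 1 + 1) + 1 by ring,
      Nat.add_sub_cancel]
  have h10 := hsq 5
  have h18 := hsq 9
  norm_num at h10 h18
  have hG' : (Nat.gcd 3 (q + 1) * ((q ^ 5 - 1) * (q ^ 9 - 1))) * Nat.card ↥(twistedE6 K q) =
      p ^ (36 * a) * (([2, 10, 6, 8, 18, 12] : List ℕ).map fun d => (p ^ a) ^ d - 1).prod := by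
    rw [hL, ← hq, h10, h18]
    calc (Nat.gcd 3 (q + 1) * ((q ^ 5 - 1) * (q ^ 9 - 1))) * Nat.card ↥(twistedE6 K q)
        = (Nat.gcd 3 (q + 1) * Nat.card ↥(twistedE6 K q)) * ((q ^ 5 - 1) * (q ^ 9 - 1)) := by ring
      _ = (q ^ 36 * (q ^ 2 - 1) * (q ^ 5 + 1) * (q ^ 6 - 1) * (q ^ 8 - 1) * (q ^ 9 + 1) * (q ^ 12 - 1)) *
          ((q ^ 5 - 1) * (q ^ 9 - 1)) := by rw [hG]
      _ = _ := by
        rw [hq, ← pow_mul, mul_comm a 36]
        ring
  have hpL : ¬ p ∣ (([5, 9] : List ℕ).map fun d => (p ^ a) ^ d - 1).prod :=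
    not_dvd_prod hp ha (fun d hd => by simp at hd; omega)
  have hL2 : (([5, 9] : List ℕ).map fun d => (p ^ a) ^ d - 1).prod = (q ^ 5 - 1) * (q ^ 9 - 1) := by
    simp only [List.map_cons, List.map_nil, List.prod_cons, List.prod_nil, mul_one, ← hq]
  rw [hL2] at hpL
  have hpg : ¬ p ∣ Nat.gcd 3 (q + 1) * ((q ^ 5 - 1) * (q ^ 9 - 1)) := by
    intro h
    rcases hp.dvd_mul.1 h with h | h
    · exact gcd_coprime hp ha (Or.inr (by rw [← hq]; exact Nat.gcd_dvd_right _ _)) h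
    · exact hpL h
  have hv : (Nat.card ↥(twistedE6 K q)).factorization p = 36 * a :=
    fact_of hp hpg (not_dvd_prod hp ha (fun d hd => by simp at hd; omega)) Nat.card_pos.ne' hG'
  obtain ⟨r, hr, hro⟩ := good_2E6_18 hp ha hq hF
  obtain ⟨s, hs', hso⟩ := good_2E6_8 hp ha hq hF
  refine none_of_cong hs hp hv (by omega) hK ?_ ?_ hχ
  · rw [show 2 * (36 * a) = a * 72 by ring]
    refine not_dvd_card hp ha (by norm_num) (N := 36 * a) (L := [2, 10, 6, 8, 18, 12]) ?_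
      (fun d hd => by simp at hd; omega)
    rw [← hG']
    exact dvd_mul_left _ _
  · intro m e he hm hm2 hc
    obtain ⟨h1, h2, h3⟩ := ords hp hr hro (by omega) hc he
    obtain ⟨h4, h5, h6⟩ := ords hp hs' hso (by omega) hc he
    exact mid_E6 ha hm (by omega) (Or.inr rfl) h1 h4 h2 (fun h => ⟨h3 h, h6 h⟩) he

end TE6

end Cfsg.Agent.H448.Van
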