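import Cfsg.Agent.H448.Van.Good
import Cfsg.Agent.H129.CycExc
import Cfsg.Agent.H448.FprExc.RowG2

/-!
# Good primes of `E₈(q)`, `F₄(q)`, `G₂(q)` (helper448, S4842)
-/

set_option autoImplicit false

namespace Cfsg.Agent.H448.Van

open Cfsg Cfsg.Lie Subgroup
open Cfsg.Agent.H94.PG Cfsg.Agent.H564.NearTwo Cfsg.Agent.H182.Cent Cfsg.Agent.H129 Cfsg.Agent.H129.CycT Cfsg.Agent.H129.CycExc
open Cfsg.Agent.H378 Cfsg.Agent.H378.ExcAdj Cfsg.Agent.H378.CycTab Cfsg.Agent.H378.ExcNear Cfsg.Agent.H378.RegFin Cfsg.Agent.H378.AdjTab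

universe u

section

variable (F : Type u) [Field F] [Finite F]

/-- a cyclic torus of order `≠ r` if `r` is small -/
def CycB (G : Type*) [Group G] (r b : ℕ) : Prop :=
  ∃ T : Subgroup G, IsCyclic ↥T ∧ r ∣ Nat.card ↥T ∧ (∀ y ∈ T, orderOf y = r → centralizer ({y} : Set G) ≤ T) ∧
    (r ≤ b + 1 → Nat.card ↥T ≠ r)

theorem CycB.of_exact {G : Type*} [Group G] {N r b : ℕ} (h : CycExact G N) (hr : r.Prime) (hrN : r ∣ N)
    (hb : r ≤ b + 1 → N ≠ r) : CycB G r b := by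
  obtain ⟨T, hT, hcard, hcent⟩ := h
  refine ⟨T, hT, hcard ▸ hrN, fun y hy hyr => (hcent y hy ?_).le, fun h => by rw [hcard]; exact hb h⟩
  rintro rfl
  rw [orderOf_one] at hyr
  exact hr.one_lt.ne hyr

theorem CycB.of_at {G : Type*} [Group G] {r b : ℕ} (h : CycAt G r) (hb : b + 1 < r) : CycB G r b := by
  obtain ⟨T, hT, hrT, hcent⟩ := h
  exact ⟨T, hT, hrT, hcent, fun h => by omega⟩

/-- `φ(n) ≤ 8` implies `n ≤ 30` -/
theorem at_E8 {r : ℕ} (hr : r.Prime) (hd : od (Nat.card F) r = 15 ∨ od (Nat.card F) r = 20 ∨ od (Nat.card F) r = 24 ∨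
    od (Nat.card F) r = 30) : CycB ↥(chevE8.group F) r 30 := by
  have := Fintype.ofFinite F
  have hF : Fintype.card F = Nat.card F := Nat.card_eq_fintype_card.symm
  have hq2 : (2 : ℤ) ≤ Nat.card F := by exact_mod_cast Finite.one_lt_card
  set q : ℤ := (Nat.card F : ℤ) with hq
  have h2 : (4 : ℤ) ≤ q ^ 2 := by nlinarith
  have h3 : (8 : ℤ) ≤ q ^ 3 := by nlinarith [pow_succ q 2]
  have h4 : (16 : ℤ) ≤ q ^ 4 := by nlinarith [pow_succ q 3]
  rcases hd with h | h | h | h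
  · have h1 := dvd15 hr h
    rw [pv15] at h1
    obtain ⟨N, hN⟩ := exists_nat (z := 1 - q + q ^ 3 - q ^ 4 + q ^ 5 - q ^ 7 + q ^ 8) (by
      have e : 1 - q + q ^ 3 - q ^ 4 + q ^ 5 - q ^ 7 + q ^ 8 =
          1 + q * (q ^ 2 - 1) + q ^ 4 * (q - 1) + q ^ 4 * (q ^ 3 * (q - 1)) := by ring
      rw [e]
      have h5 : 0 ≤ q * (q ^ 2 - 1) := mul_nonneg (by linarith) (by linarith)
      have h6 : 0 ≤ q ^ 4 * (q - 1) := mul_nonneg (by linarith) (by linarith)
      have h7 : 0 ≤ q ^ 4 * (q ^ 3 * (q - 1)) := mul_nonneg (by linarith) (mul_nonneg (by linarith) (by linarith))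
      linarith)
    refine CycB.of_exact (exact_E8_15 hF hN) hr ?_ (fun hb => ?_)
    on_goal 2 =>
      have h8 : (128 : ℤ) ≤ q ^ 7 := by nlinarith [pow_succ q 4]
      have e : 1 - q + q ^ 3 - q ^ 4 + q ^ 5 - q ^ 7 + q ^ 8 =
          1 + q * (q ^ 2 - 1) + q ^ 4 * (q - 1) + q ^ 7 * (q - 1) := by ring
      have h5 : 0 ≤ q * (q ^ 2 - 1) := mul_nonneg (by linarith) (by linarith)
      have h6 : 0 ≤ q ^ 4 * (q - 1) := mul_nonneg (by linarith) (by linarith)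
      have h7 : 128 * 1 ≤ q ^ 7 * (q - 1) := mul_le_mul h8 (by linarith) (by norm_num) (by positivity)
      omega
    have h5 : (r : ℤ) ∣ (N : ℤ) := by
      rw [hN]
      have e : 1 - q + q ^ 3 - q ^ 4 + q ^ 5 - q ^ 7 + q ^ 8 = q ^ 8 - q ^ 7 + q ^ 5 - q ^ 4 + q ^ 3 - q + 1 := by ring
      rw [e]
      exact h1
    exact Int.natCast_dvd_natCast.1 h5
  · have h1 := dvd20 hr h
    rw [pv20] at h1
    obtain ⟨N, hN⟩ := exists_nat (z := 1 - q ^ 2 + q ^ 4 - q ^ 6 + q ^ 8) (by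
      have e : 1 - q ^ 2 + q ^ 4 - q ^ 6 + q ^ 8 = 1 + q ^ 2 * (q ^ 2 - 1) + q ^ 4 * (q ^ 2 * (q ^ 2 - 1)) := by ring
      rw [e]
      have h5 : 0 ≤ q ^ 2 * (q ^ 2 - 1) := mul_nonneg (by linarith) (by linarith)
      have h6 : 0 ≤ q ^ 4 * (q ^ 2 * (q ^ 2 - 1)) := mul_nonneg (by linarith) h5
      linarith)
    refine CycB.of_at (at_E8_20 hF hN hr ?_ (ne_of_od hr h (by norm_num) (by norm_num))) ?_
    on_goal 2 =>
      have h6 := mod_of_od hr h (by norm_num)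
      by_contra hcon
      have h7 := hr.two_le
      obtain ⟨c, hc⟩ := h6
      have h8 : c = 0 ∨ c = 1 := by omega
      rcases h8 with rfl | rfl
      · omega
      · have : r = 21 := by omega
        subst this
        exact absurd hr (by norm_num)
    have h5 : (r : ℤ) ∣ (N : ℤ) := by
      rw [hN]
      have e : 1 - q ^ 2 + q ^ 4 - q ^ 6 + q ^ 8 = q ^ 8 - q ^ 6 + q ^ 4 - q ^ 2 + 1 := by ring
      rw [e]
      exact h1
    exact Int.natCast_dvd_natCast.1 h5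
  · have h1 := dvd24 hr h
    rw [pv24] at h1
    obtain ⟨N, hN⟩ := exists_nat (z := 1 - q ^ 4 + q ^ 8) (by
      have e : 1 - q ^ 4 + q ^ 8 = 1 + q ^ 4 * (q ^ 4 - 1) := by ring
      rw [e]
      have h5 : 0 ≤ q ^ 4 * (q ^ 4 - 1) := mul_nonneg (by linarith) (by linarith)
      linarith)
    refine CycB.of_exact (exact_E8_24 hF hN) hr ?_ (fun hb => ?_)
    on_goal 2 =>
      have e : 1 - q ^ 4 + q ^ 8 = 1 + q ^ 4 * (q ^ 4 - 1) := by ring
      have h7 : 16 * 15 ≤ q ^ 4 * (q ^ 4 - 1) := mul_le_mul h4 (by linarith) (by norm_num) (by positivity)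
      omega
    have h5 : (r : ℤ) ∣ (N : ℤ) := by
      rw [hN]
      have e : 1 - q ^ 4 + q ^ 8 = q ^ 8 - q ^ 4 + 1 := by ring
      rw [e]
      exact h1
    exact Int.natCast_dvd_natCast.1 h5
  · have h1 := dvd30 hr h
    rw [pv30] at h1
    obtain ⟨N, hN⟩ := exists_nat (z := 1 + q - q ^ 3 - q ^ 4 - q ^ 5 + q ^ 7 + q ^ 8) (by
      have e : 1 + q - q ^ 3 - q ^ 4 - q ^ 5 + q ^ 7 + q ^ 8 =
          1 + q + q ^ 3 * (q ^ 2 * (q ^ 2 - 1) + (q * (q ^ 4 - 1) - 1)) := by ring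
      rw [e]
      have h5 : 0 ≤ q ^ 2 * (q ^ 2 - 1) := mul_nonneg (by linarith) (by linarith)
      have h6 : 0 ≤ q * (q ^ 4 - 1) - 1 := by nlinarith
      have h7 : 0 ≤ q ^ 3 * (q ^ 2 * (q ^ 2 - 1) + (q * (q ^ 4 - 1) - 1)) := mul_nonneg (by linarith) (by linarith)
      linarith)
    refine CycB.of_exact (exact_E8_30 hF hN) hr ?_ (fun hb => ?_)
    on_goal 2 =>
      have e : 1 + q - q ^ 3 - q ^ 4 - q ^ 5 + q ^ 7 + q ^ 8 =
          1 + q + q ^ 3 * (q ^ 2 * (q ^ 2 - 1) + (q * (q ^ 4 - 1) - 1)) := by ring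
      have h5 : 12 ≤ q ^ 2 * (q ^ 2 - 1) := by nlinarith
      have h6 : 0 ≤ q * (q ^ 4 - 1) - 1 := by nlinarith
      have h7 : 8 * 12 ≤ q ^ 3 * (q ^ 2 * (q ^ 2 - 1) + (q * (q ^ 4 - 1) - 1)) :=
        mul_le_mul h3 (by linarith) (by norm_num) (by positivity)
      omega
    have h5 : (r : ℤ) ∣ (N : ℤ) := by
      rw [hN]
      have e : 1 + q - q ^ 3 - q ^ 4 - q ^ 5 + q ^ 7 + q ^ 8 = q ^ 8 + q ^ 7 - q ^ 5 - q ^ 4 - q ^ 3 + q + 1 := by ring
      rw [e]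
      exact h1
    exact Int.natCast_dvd_natCast.1 h5

end

/-- `φ(n) ≤ 8` implies `n ≤ 30` -/
theorem le_of_totient_eight {n : ℕ} (hn : 0 < n) (h : n.totient ≤ 8) : n ≤ 30 := by
  have h1 := Cfsg.Agent.H365.Zsig.le_two_mul_totient_sq hn
  have h2 : n.totient ^ 2 ≤ 8 ^ 2 := Nat.pow_le_pow_left h 2
  have h3 : n < 129 := by omega
  revert h
  have key : ∀ m < 129, m.totient ≤ 8 → m ≤ 30 := by decide +kernel
  exact key n h3

theorem le_of_totient_four {n : ℕ} (hn : 0 < n) (h : n.totient ≤ 4) : n ≤ 12 := by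
  have h1 := Cfsg.Agent.H365.Zsig.le_two_mul_totient_sq hn
  have h2 : n.totient ^ 2 ≤ 4 ^ 2 := Nat.pow_le_pow_left h 2
  have h3 : n < 33 := by omega
  revert h
  have key : ∀ m < 33, m.totient ≤ 4 → m ≤ 12 := by decide +kernel
  exact key n h3

theorem le_of_totient_two {n : ℕ} (hn : 0 < n) (h : n.totient ≤ 2) : n ≤ 6 := by
  have h1 := Cfsg.Agent.H365.Zsig.le_two_mul_totient_sq hn
  have h2 : n.totient ^ 2 ≤ 2 ^ 2 := Nat.pow_le_pow_left h 2
  have h3 : n < 9 := by omega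
  revert h
  have key : ∀ m < 9, m.totient ≤ 2 → m ≤ 6 := by decide +kernel
  exact key n h3

open Cfsg.Agent.BpExc.RowsUntw Cfsg.Agent.BpExc.FamInst

/-- the classes of elements of order `r` from the bound for the normaliser -/
theorem exists_not_conj_untw {D : ChevalleyDatum} {l : ℕ} {M : CoxeterMatrix (Fin l)} (hp : Cfsg.Agent.Nodes.RGDChev.IsType D l M)
    {F : Type u} [Field F] [Finite F] {r m b : ℕ} (hr : r.Prime) (h : od (Nat.card F) r = m)
    (hl : m.totient = l) (hlm : l < m) (hb : ∀ n, 0 < n → n.totient ≤ l → n ≤ b) (hbr : b + 1 < r) {x : ↥(D.group F)}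
    (hx : orderOf x = r) : ∃ i : ℕ, i.Coprime r ∧ ¬ IsConj x (x ^ i) := by
  have : Fact r.Prime := ⟨hr⟩
  obtain ⟨n, hn, h1, h2, h3, -⟩ := Cfsg.Agent.H448.FprExc.nc_untw hp hx h hl hlm
  have h4 := hb n hn h3
  exact exists_not_conj hr hx h1 (by omega)

/-- the generic case: `p ^ a = q`, `φ(d) = l` -/
theorem good_untw {D : ChevalleyDatum} {l : ℕ} {M : CoxeterMatrix (Fin l)} (hp : Cfsg.Agent.Nodes.RGDChev.IsType D l M)
    {d' : ℕ} {B : Fin l → Fin l → ℤ} (hB : Cfsg.Agent.BpExc.FamExt.InvC D l d' B) (hd' : d' ≠ 0)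
    {F : Type u} [Field F] [Fintype F] {p a m b : ℕ} (hpp : p.Prime) (ha : 0 < a) (hF : Fintype.card F = p ^ a)
    (h3 : 3 ≤ a * m) (h6 : ¬ (p = 2 ∧ a * m = 6))
    (hl : m.totient = l) (hlm : l < m) (hb : ∀ n, 0 < n → n.totient ≤ l → n ≤ b)
    (hc : ∀ r : ℕ, r.Prime → od (Nat.card F) r = m → m ∣ r - 1 → CycB ↥(D.group F) r b) :
    ∃ r, Good ↥(D.group F) p r ∧ orderOf (p : ZMod r) = a * m := by
  obtain ⟨r, hr, hrp, h1, h2, h4⟩ := exists_prim (a := a) (d := m) hpp ha h3 h6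
  have hFc : Nat.card F = p ^ a := by rw [Nat.card_eq_fintype_card, hF]
  have ho : od (Nat.card F) r = m := by rw [hFc]; exact h2
  have hm : 0 < m := by omega
  obtain ⟨T, hT, hrT, hcent, hTr⟩ := hc r hr ho (mod_of_od hr ho hm)
  refine ⟨r, good_of_T hr hT hrT hcent (fun x hxT hx => ?_) (fun x hxT hx => ?_), h1⟩
  · have h5 := (RegFin.cent_od hp hB hd' hr hx ho hl hlm).2
    refine Nat.Coprime.coprime_dvd_right h5 ?_
    rw [Nat.Prime.coprime_iff_not_dvd hpp]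
    intro h6
    have h7 : (p : ℤ) ∣ (Polynomial.cyclotomic m ℤ).eval ((Nat.card F : ℕ) : ℤ) := Int.natCast_dvd.2 h6
    have h8 := h7.trans (Polynomial.eval_dvd (x := ((Nat.card F : ℕ) : ℤ)) (Polynomial.cyclotomic.dvd_X_pow_sub_one m ℤ))
    rw [Polynomial.eval_sub, Polynomial.eval_pow, Polynomial.eval_X, Polynomial.eval_one, hFc, Nat.cast_pow] at h8
    have h9 : (p : ℤ) ∣ ((p : ℤ) ^ a) ^ m := dvd_pow (dvd_pow_self _ ha.ne') hm.ne'
    have h10 : (p : ℤ) ∣ 1 := by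
      have := dvd_sub h9 h8
      rwa [sub_sub_cancel] at this
    exact hpp.one_lt.ne' (Nat.dvd_one.1 (by exact_mod_cast h10))
  · by_cases h5 : b + 1 < r
    · exact Or.inr (exists_not_conj_untw hp hr ho hl hlm hb h5 hx)
    · exact Or.inl (by rw [cent_eq hT hcent hxT hx]; exact hTr (by omega))

/-- **`E₈(q)`** -/
theorem good_E8 {F : Type u} [Field F] [Fintype F] {p a m : ℕ} (hpp : p.Prime) (ha : 0 < a)
    (hF : Fintype.card F = p ^ a) (hm : m = 15 ∨ m = 20 ∨ m = 24 ∨ m = 30) :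
    ∃ r, Good ↥(chevE8.group F) p r ∧ orderOf (p : ZMod r) = a * m := by
  have ham : m ≤ a * m := Nat.le_mul_of_pos_left m ha
  exact good_untw e8T inv_E8 one_ne_zero hpp ha hF (b := 30) (by omega) (by omega)
    (by rcases hm with rfl | rfl | rfl | rfl <;> decide) (by omega) (fun n hn h => le_of_totient_eight hn h)
    (fun r hr ho _ => at_E8 F hr (by rw [ho]; exact hm))

/-- **`F₄(q)`**, the primes of order 8. -/
theorem good_F4_8 {F : Type u} [Field F] [Fintype F] {p a : ℕ} (hpp : p.Prime) (ha : 0 < a)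
    (hF : Fintype.card F = p ^ a) : ∃ r, Good ↥(chevF4.group F) p r ∧ orderOf (p : ZMod r) = a * 8 := by
  have ham : 8 ≤ a * 8 := Nat.le_mul_of_pos_left 8 ha
  refine good_untw f4T inv_F4 one_ne_zero hpp ha hF (b := 12) (by omega) (by omega) (by decide) (by omega)
    (fun n hn h => le_of_totient_four hn h) (fun r hr ho h6 => ?_)
  have h1 := dvd8 hr ho
  rw [pv8] at h1
  refine CycB.of_at (at_F4_8 (q := Nat.card F) Nat.card_eq_fintype_card.symm (N := Nat.card F ^ 4 + 1)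
    (by push_cast; ring) hr (by exact_mod_cast h1) (ne_of_od hr ho (by norm_num) (by norm_num))) ?_
  by_contra hcon
  have h7 := hr.two_le
  obtain ⟨c, hc⟩ := h6
  have h8 : c = 0 ∨ c = 1 := by omega
  rcases h8 with rfl | rfl
  · omega
  · have : r = 9 := by omega
    subst this
    exact absurd hr (by norm_num)

/-- **`F₄(q)`**, the primes of order 12, `q ≠ 2`. -/
theorem good_F4_12 {F : Type u} [Field F] [Fintype F] {p a : ℕ} (hpp : p.Prime) (ha : 0 < a)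
    (hF : Fintype.card F = p ^ a) (hq : p ^ a ≠ 2) :
    ∃ r, Good ↥(chevF4.group F) p r ∧ orderOf (p : ZMod r) = a * 12 := by
  have ham : 12 ≤ a * 12 := Nat.le_mul_of_pos_left 12 ha
  refine good_untw f4T inv_F4 one_ne_zero hpp ha hF (b := 12) (by omega) (by omega) (by decide) (by omega)
    (fun n hn h => le_of_totient_four hn h) (fun r hr ho h6 => ?_)
  have h1 := dvd12 hr ho
  rw [pv12] at h1
  have hq3 : 3 ≤ Nat.card F := by
    have h2 : 2 ≤ Nat.card F := Finite.one_lt_card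
    rw [Nat.card_eq_fintype_card, hF] at h2 ⊢
    omega
  have hle : Nat.card F ^ 2 ≤ Nat.card F ^ 4 := Nat.pow_le_pow_right (by omega) (by norm_num)
  have hN : ((Nat.card F ^ 4 - Nat.card F ^ 2 + 1 : ℕ) : ℤ) = 1 - (Nat.card F : ℤ) ^ 2 + (Nat.card F : ℤ) ^ 4 := by
    push_cast [Nat.cast_sub hle]; ring
  refine CycB.of_exact (exact_F4_12 (q := Nat.card F) Nat.card_eq_fintype_card.symm hN) hr ?_ (fun hb h2 => ?_)
  · have : (r : ℤ) ∣ ((Nat.card F ^ 4 - Nat.card F ^ 2 + 1 : ℕ) : ℤ) := by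
      rw [hN]
      have e : 1 - (Nat.card F : ℤ) ^ 2 + (Nat.card F : ℤ) ^ 4 = (Nat.card F : ℤ) ^ 4 - Nat.card F ^ 2 + 1 := by ring
      rw [e]
      exact h1
    exact Int.natCast_dvd_natCast.1 this
  · have h3 : 9 ≤ Nat.card F ^ 2 := by nlinarith
    have h4 : Nat.card F ^ 4 = Nat.card F ^ 2 * Nat.card F ^ 2 := by ring
    have h5 : 9 * Nat.card F ^ 2 ≤ Nat.card F ^ 4 := by rw [h4]; exact Nat.mul_le_mul_right _ h3
    omega

/-- **`G₂(q)`**, the primes of order 3 -/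
theorem good_G2_3 {F : Type u} [Field F] [Fintype F] {p a : ℕ} (hpp : p.Prime) (ha : 0 < a)
    (hF : Fintype.card F = p ^ a) (h6 : ¬ (p = 2 ∧ a * 3 = 6)) (hq : p ^ a ≠ 2) :
    ∃ r, Good ↥(chevG2.group F) p r ∧ orderOf (p : ZMod r) = a * 3 := by
  have ham : 3 ≤ a * 3 := Nat.le_mul_of_pos_left 3 ha
  refine good_untw g2T inv_G2 one_ne_zero hpp ha hF (b := 6) (by omega) h6 (by decide) (by omega)
    (fun n hn h => le_of_totient_two hn h) (fun r hr ho h6 => ?_)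
  have h1 := dvd3 hr ho
  rw [pv3] at h1
  have h7 : 7 ≤ r := by
    by_contra hcon
    have h7 := hr.two_le
    obtain ⟨c, hc⟩ := h6
    have h8 : c = 0 ∨ c = 1 := by omega
    rcases h8 with rfl | rfl
    · omega
    · have : r = 4 := by omega
      subst this
      exact absurd hr (by norm_num)
  have hq3 : 3 ≤ Nat.card F := by
    have h2 : 2 ≤ Nat.card F := Finite.one_lt_card
    rw [Nat.card_eq_fintype_card, hF] at h2 ⊢
    omega
  have hrN : r ∣ Nat.card F ^ 2 + Nat.card F + 1 := by exact_mod_cast h1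
  obtain ⟨T, hT, hcard, hcent⟩ := Cfsg.Agent.H448.FprExc.torus3 (q := Nat.card F) Nat.card_eq_fintype_card.symm
    (N := Nat.card F ^ 2 + Nat.card F + 1) (by push_cast; ring) hr h7 hrN
  refine ⟨T, hT, hcard ▸ hrN, hcent, fun hb h2 => ?_⟩
  rw [hcard] at h2
  have h3 : 9 ≤ Nat.card F ^ 2 := by nlinarith
  omega

/-- **`G₂(q)`**, the primes of order 6 -/
theorem good_G2_6 {F : Type u} [Field F] [Fintype F] {p a : ℕ} (hpp : p.Prime) (ha : 0 < a)
    (hF : Fintype.card F = p ^ a) (hq : p ^ a ≠ 2) (hq3 : p ^ a ≠ 3) :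
    ∃ r, Good ↥(chevG2.group F) p r ∧ orderOf (p : ZMod r) = a * 6 := by
  have ham : 6 ≤ a * 6 := Nat.le_mul_of_pos_left 6 ha
  have h6 : ¬ (p = 2 ∧ a * 6 = 6) := by
    rintro ⟨rfl, h⟩
    have : a = 1 := by omega
    subst this
    exact hq rfl
  refine good_untw g2T inv_G2 one_ne_zero hpp ha hF (b := 6) (by omega) h6 (by decide) (by omega)
    (fun n hn h => le_of_totient_two hn h) (fun r hr ho h6 => ?_)
  have h1 := dvd6 hr ho
  rw [pv6] at h1
  have h7 : 7 ≤ r := by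
    have h7 := hr.two_le
    obtain ⟨c, hc⟩ := h6
    rcases c with _ | c
    · omega
    · omega
  have hq4 : 4 ≤ Nat.card F := by
    have h2 : 2 ≤ Nat.card F := Finite.one_lt_card
    rw [Nat.card_eq_fintype_card, hF] at h2 ⊢
    omega
  have hle : Nat.card F ≤ Nat.card F ^ 2 := Nat.le_self_pow (by norm_num) _
  have hN : ((Nat.card F ^ 2 - Nat.card F + 1 : ℕ) : ℤ) = 1 - (Nat.card F : ℤ) + (Nat.card F : ℤ) ^ 2 := by
    push_cast [Nat.cast_sub hle]; ring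
  have hrN : r ∣ Nat.card F ^ 2 - Nat.card F + 1 := by
    have : (r : ℤ) ∣ ((Nat.card F ^ 2 - Nat.card F + 1 : ℕ) : ℤ) := by
      rw [hN]
      have e : 1 - (Nat.card F : ℤ) + (Nat.card F : ℤ) ^ 2 = (Nat.card F : ℤ) ^ 2 - Nat.card F + 1 := by ring
      rw [e]
      exact h1
    exact Int.natCast_dvd_natCast.1 this
  obtain ⟨T, hT, hcard, hcent⟩ := Cfsg.Agent.H448.FprExc.torus6 (q := Nat.card F) Nat.card_eq_fintype_card.symm
    hN hr h7 hrN
  refine ⟨T, hT, hcard ▸ hrN, hcent, fun hb h2 => ?_⟩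
  rw [hcard] at h2
  have h3 : 4 * Nat.card F ≤ Nat.card F ^ 2 := by nlinarith
  omega

end Cfsg.Agent.H448.Van
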