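import Mathlib
import Cfsg.Agent.Lib.Zsigmondy

/-!
# Arithmetic for the exceptional rows of S4842 (helper448)
-/

set_option autoImplicit false

namespace Cfsg.Agent.H448.Van

theorem ord_one {p r D m : ℕ} (hord : orderOf (p : ZMod r) = D) (h : (r : ℤ) ∣ 1 * (p : ℤ) ^ m - (p : ℤ) ^ 0) :
    D ∣ m := by
  rw [← hord]
  apply orderOf_dvd_of_pow_eq_one
  rw [one_mul, pow_zero] at h
  have h1 := (ZMod.intCast_zmod_eq_zero_iff_dvd _ r).2 h
  push_cast at h1
  linear_combination h1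

theorem ord_neg {p r D m : ℕ} (hord : orderOf (p : ZMod r) = D) (h : (r : ℤ) ∣ (-1) * (p : ℤ) ^ m - (p : ℤ) ^ 0) :
    D ∣ 2 * m ∧ (2 < r → ¬ D ∣ m) := by
  rw [← hord]
  rw [pow_zero] at h
  have h1 := (ZMod.intCast_zmod_eq_zero_iff_dvd _ r).2 h
  push_cast at h1
  have h2 : (p : ZMod r) ^ m = -1 := by linear_combination -h1
  refine ⟨orderOf_dvd_of_pow_eq_one ?_, fun hr h3 => ?_⟩
  · rw [mul_comm, pow_mul, h2]; ring
  · have h4 := orderOf_dvd_iff_pow_eq_one.1 h3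
    rw [h4] at h2
    have h5 : ((2 : ℕ) : ZMod r) = 0 := by push_cast; linear_combination h2
    rw [ZMod.natCast_eq_zero_iff] at h5
    have := Nat.le_of_dvd (by norm_num) h5
    omega

/-- the order does not have a divisor `p ^ (a x) - 1` -/
theorem not_dvd_card {p a n N x : ℕ} {L : List ℕ} (hp : p.Prime) (ha : 0 < a) (hx : 7 ≤ x)
    (h : n ∣ p ^ N * (L.map fun d => (p ^ a) ^ d - 1).prod) (hL : ∀ d ∈ L, 0 < d ∧ d < x) : ¬ p ^ (a * x) - 1 ∣ n := by
  intro hd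
  have hax : x ≤ a * x := Nat.le_mul_of_pos_left x ha
  obtain ⟨s, hs, hord⟩ := Cfsg.Agent.Lib.Zsigmondy.exists_prime_orderOf (a := p) (n := a * x) hp.two_le (by omega)
    (by omega) (by omega)
  have : Fact s.Prime := ⟨hs⟩
  have hdvd : ∀ m, s ∣ p ^ m - 1 ↔ a * x ∣ m := by
    intro m
    have h1 : 1 ≤ p ^ m := Nat.one_le_pow _ _ hp.pos
    rw [← hord, orderOf_dvd_iff_pow_eq_one, ← ZMod.natCast_eq_zero_iff, Nat.cast_sub h1]
    push_cast
    exact sub_eq_zero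
  have hp0 : ¬ s ∣ p := by
    intro h1
    have h2 : (p : ZMod s) = 0 := (ZMod.natCast_eq_zero_iff _ _).2 h1
    have h3 : (p : ZMod s) ^ (a * x) = 1 := by rw [← hord]; exact pow_orderOf_eq_one _
    rw [h2, zero_pow (by omega)] at h3
    exact zero_ne_one h3
  have h1 : s ∣ p ^ N * (L.map fun d => (p ^ a) ^ d - 1).prod := (((hdvd _).2 dvd_rfl).trans hd).trans h
  rcases hs.dvd_mul.1 h1 with h2 | h2
  · exact hp0 (hs.dvd_of_dvd_pow h2)
  · rw [hs.prime.dvd_prod_iff] at h2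
    obtain ⟨y, hy, h3⟩ := h2
    rw [List.mem_map] at hy
    obtain ⟨d, hdL, rfl⟩ := hy
    rw [← pow_mul] at h3
    have h4 := (hdvd _).1 h3
    have h5 := Nat.le_of_dvd (Nat.mul_pos ha (hL d hdL).1) h4
    have h6 := Nat.le_of_mul_le_mul_left h5 ha
    have := (hL d hdL).2
    omega

theorem fact_of {p g n M v : ℕ} (hp : p.Prime) (hg : ¬ p ∣ g) (hM : ¬ p ∣ M) (hn : n ≠ 0) (h : g * n = p ^ v * M) :
    n.factorization p = v := by
  have hg0 : g ≠ 0 := by rintro rfl; exact hg (dvd_zero p)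
  have hM0 : M ≠ 0 := by rintro rfl; exact hM (dvd_zero p)
  have h1 := congrArg (fun m => m.factorization p) h
  beta_reduce at h1
  rw [Nat.factorization_mul hg0 hn, Nat.factorization_mul (pow_ne_zero _ hp.ne_zero) hM0, Finsupp.add_apply,
    Finsupp.add_apply, Nat.factorization_eq_zero_of_not_dvd hg, Nat.factorization_eq_zero_of_not_dvd hM,
    hp.factorization_pow, Finsupp.single_eq_same] at h1
  omega

/-- `p` does not divide the `p'`-part of the order -/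
theorem not_dvd_prod {p a : ℕ} {L : List ℕ} (hp : p.Prime) (ha : 0 < a) (hL : ∀ d ∈ L, 0 < d) :
    ¬ p ∣ (L.map fun d => (p ^ a) ^ d - 1).prod := by
  intro h
  rw [hp.prime.dvd_prod_iff] at h
  obtain ⟨y, hy, h3⟩ := h
  rw [List.mem_map] at hy
  obtain ⟨d, hdL, rfl⟩ := hy
  have h4 : p ∣ (p ^ a) ^ d := dvd_pow (dvd_pow_self p ha.ne') (hL d hdL).ne'
  have h5 : 1 ≤ (p ^ a) ^ d := Nat.one_le_pow _ _ (pow_pos hp.pos a)
  have h6 := (Nat.dvd_sub_iff_right h5 h4).1 h3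
  exact hp.one_lt.ne' (Nat.dvd_one.1 h6)

/-! ### the middle values -/

/-- `9, 8` and `18, 8`: nothing below `72` -/
theorem mid_E6 {a m d : ℕ} {e : ℤ} (ha : 0 < a) (hm : 0 < m) (hm2 : m < 72 * a) (hd : d = 9 ∨ d = 18)
    (h1 : a * d ∣ 2 * m) (h2 : a * 8 ∣ 2 * m) (h3 : e = -1 → ¬ a * d ∣ m) (h4 : e = 1 → a * d ∣ m ∧ a * 8 ∣ m)
    (he : e = 1 ∨ e = -1) : False := by
  have key : ∀ M, a * d ∣ M → a * 8 ∣ M → a * 72 ∣ M := by
    intro M h5 h6
    obtain ⟨c, hc⟩ := (Dvd.intro d rfl : a ∣ a * d).trans h5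
    rw [hc] at h5 h6 ⊢
    have h7 := Nat.dvd_of_mul_dvd_mul_left ha h5
    have h8 := Nat.dvd_of_mul_dvd_mul_left ha h6
    apply Nat.mul_dvd_mul_left
    rcases hd with rfl | rfl <;> omega
  rcases he with rfl | rfl
  · obtain ⟨h5, h6⟩ := h4 rfl
    have := Nat.le_of_dvd hm (key m h5 h6)
    omega
  · obtain ⟨c, hc⟩ := key (2 * m) h1 h2
    have h5 : c < 2 := by
      by_contra hcon
      have : a * 72 * 2 ≤ a * 72 * c := Nat.mul_le_mul_left _ (by omega)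
      omega
    have h6 : c = 1 := by
      rcases Nat.eq_zero_or_pos c with rfl | h6
      · omega
      · omega
    subst h6
    have h7 : m = a * 36 := by omega
    apply h3 rfl
    rw [h7]
    apply Nat.mul_dvd_mul_left
    rcases hd with rfl | rfl <;> norm_num

/-- `7, 14, 18`: nothing below `126` -/
theorem mid_E7 {a m : ℕ} {e : ℤ} (ha : 0 < a) (hm : 0 < m) (hm2 : m < 126 * a)
    (h1 : a * 7 ∣ 2 * m) (h2 : a * 18 ∣ 2 * m) (h3 : e = -1 → ¬ a * 7 ∣ m)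
    (h4 : e = 1 → a * 7 ∣ m ∧ a * 18 ∣ m) (he : e = 1 ∨ e = -1) : False := by
  have key : ∀ M, a * 7 ∣ M → a * 18 ∣ M → a * 126 ∣ M := by
    intro M h5 h6
    obtain ⟨c, hc⟩ := (Dvd.intro 7 rfl : a ∣ a * 7).trans h5
    rw [hc] at h5 h6 ⊢
    have h7 := Nat.dvd_of_mul_dvd_mul_left ha h5
    have h8 := Nat.dvd_of_mul_dvd_mul_left ha h6
    apply Nat.mul_dvd_mul_left
    omega
  rcases he with rfl | rfl
  · obtain ⟨h5, h6⟩ := h4 rfl
    have := Nat.le_of_dvd hm (key m h5 h6)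
    omega
  · obtain ⟨c, hc⟩ := key (2 * m) h1 h2
    have h5 : c < 2 := by
      by_contra hcon
      have : a * 126 * 2 ≤ a * 126 * c := Nat.mul_le_mul_left _ (by omega)
      omega
    have h6 : c = 1 := by
      rcases Nat.eq_zero_or_pos c with rfl | h6
      · omega
      · omega
    subst h6
    have h7 : m = a * 63 := by omega
    apply h3 rfl
    rw [h7]
    apply Nat.mul_dvd_mul_left
    norm_num

/-- `15, 20, 24`: only `120`, sign `+` -/
theorem mid_E8 {a m : ℕ} {e : ℤ} (ha : 0 < a) (hm : 0 < m) (hm2 : m < 240 * a)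
    (h1 : a * 15 ∣ 2 * m) (h2 : a * 20 ∣ 2 * m) (h2' : a * 24 ∣ 2 * m) (h3 : e = -1 → ¬ a * 15 ∣ m)
    (h4 : e = 1 → a * 15 ∣ m ∧ a * 20 ∣ m ∧ a * 24 ∣ m) (he : e = 1 ∨ e = -1) : e = 1 ∧ m = a * 120 := by
  have key : ∀ M, a * 15 ∣ M → a * 20 ∣ M → a * 24 ∣ M → a * 120 ∣ M := by
    intro M h5 h6 h7
    obtain ⟨c, hc⟩ := (Dvd.intro 15 rfl : a ∣ a * 15).trans h5
    rw [hc] at h5 h6 h7 ⊢
    have h8 := Nat.dvd_of_mul_dvd_mul_left ha h5
    have h9 := Nat.dvd_of_mul_dvd_mul_left ha h6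
    have h10 := Nat.dvd_of_mul_dvd_mul_left ha h7
    apply Nat.mul_dvd_mul_left
    omega
  rcases he with rfl | rfl
  · obtain ⟨h5, h6, h7⟩ := h4 rfl
    obtain ⟨c, hc⟩ := key m h5 h6 h7
    refine ⟨rfl, ?_⟩
    have h5 : c < 2 := by
      by_contra hcon
      have : a * 120 * 2 ≤ a * 120 * c := Nat.mul_le_mul_left _ (by omega)
      omega
    have h6 : c = 1 := by
      rcases Nat.eq_zero_or_pos c with rfl | h6
      · omega
      · omega
    subst h6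
    omega
  · exfalso
    obtain ⟨c, hc⟩ := key (2 * m) h1 h2 h2'
    apply h3 rfl
    refine ⟨4 * c, ?_⟩
    have : a * 15 * (4 * c) = a * 60 * c := by ring
    rw [this]
    have h8 : a * 120 * c = 2 * (a * 60 * c) := by ring
    omega

end Cfsg.Agent.H448.Van
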