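import Cfsg.Agent.H129.WData

/-!
# Data of the torus of type `A₆` of `E₈(q)` (helper448)

The word `s₂ s₄ s₅ s₆ s₇ s₈` fixes `α₁`; `Gf q` is a functional on the root lattice with `Gf q (θ x) = q Gf q x` modulo
`q ^ 7 - 1`; its values on the roots `≠ ± α₁` are units modulo the prime divisors `≠ 2, 7` of `Φ₇(q)`.
-/

set_option autoImplicit false

namespace Cfsg.Agent.H448.Van.DataE8s

open Cfsg.Agent.H129.TorusTw Cfsg.Agent.H129.WData Cfsg.Agent.ChevalleyStructure.CoxeterGeomTypes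
open Cfsg.Agent.ChevalleyStructure.RootVec
open Cfsg.Lie Cfsg.Lie.ChevalleyDatum

/-- the Cartan matrix -/
def Am : Mat 8 := ![![2, 0, -1, 0, 0, 0, 0, 0],
    ![0, 2, 0, -1, 0, 0, 0, 0],
    ![-1, 0, 2, -1, 0, 0, 0, 0],
    ![0, -1, -1, 2, -1, 0, 0, 0],
    ![0, 0, 0, -1, 2, -1, 0, 0],
    ![0, 0, 0, 0, -1, 2, -1, 0],
    ![0, 0, 0, 0, 0, -1, 2, -1],
    ![0, 0, 0, 0, 0, 0, -1, 2]]

/-- the word -/
def word : List (Fin 8) := [1, 3, 4, 5, 6, 7]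

/-- the partial products -/
def chain : List (Fin 8 × Mat 8) := [
    (1, ![![1, 0, 0, 0, 0, 0, 0, 0],
      ![0, 0, 0, 1, 0, 0, 0, 0],
      ![0, 1, 1, 1, 0, 0, 0, 0],
      ![0, 0, 0, 0, 1, 0, 0, 0],
      ![0, 0, 0, 0, 0, 1, 0, 0],
      ![0, 0, 0, 0, 0, 0, 1, 0],
      ![0, 0, 0, 0, 0, 0, 0, 1],
      ![0, -1, 0, -1, -1, -1, -1, -1]]),
    (3, ![![1, 0, 0, 0, 0, 0, 0, 0],
      ![0, 1, 0, 1, 0, 0, 0, 0],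
      ![0, 0, 1, 1, 0, 0, 0, 0],
      ![0, 0, 0, 0, 1, 0, 0, 0],
      ![0, 0, 0, 0, 0, 1, 0, 0],
      ![0, 0, 0, 0, 0, 0, 1, 0],
      ![0, 0, 0, 0, 0, 0, 0, 1],
      ![0, 0, 0, -1, -1, -1, -1, -1]]),
    (4, ![![1, 0, 0, 0, 0, 0, 0, 0],
      ![0, 1, 0, 0, 0, 0, 0, 0],
      ![0, 0, 1, 0, 0, 0, 0, 0],
      ![0, 0, 0, 1, 1, 0, 0, 0],
      ![0, 0, 0, 0, 0, 1, 0, 0],
      ![0, 0, 0, 0, 0, 0, 1, 0],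
      ![0, 0, 0, 0, 0, 0, 0, 1],
      ![0, 0, 0, 0, -1, -1, -1, -1]]),
    (5, ![![1, 0, 0, 0, 0, 0, 0, 0],
      ![0, 1, 0, 0, 0, 0, 0, 0],
      ![0, 0, 1, 0, 0, 0, 0, 0],
      ![0, 0, 0, 1, 0, 0, 0, 0],
      ![0, 0, 0, 0, 1, 1, 0, 0],
      ![0, 0, 0, 0, 0, 0, 1, 0],
      ![0, 0, 0, 0, 0, 0, 0, 1],
      ![0, 0, 0, 0, 0, -1, -1, -1]]),
    (6, ![![1, 0, 0, 0, 0, 0, 0, 0],
      ![0, 1, 0, 0, 0, 0, 0, 0],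
      ![0, 0, 1, 0, 0, 0, 0, 0],
      ![0, 0, 0, 1, 0, 0, 0, 0],
      ![0, 0, 0, 0, 1, 0, 0, 0],
      ![0, 0, 0, 0, 0, 1, 1, 0],
      ![0, 0, 0, 0, 0, 0, 0, 1],
      ![0, 0, 0, 0, 0, 0, -1, -1]]),
    (7, ![![1, 0, 0, 0, 0, 0, 0, 0],
      ![0, 1, 0, 0, 0, 0, 0, 0],
      ![0, 0, 1, 0, 0, 0, 0, 0],
      ![0, 0, 0, 1, 0, 0, 0, 0],
      ![0, 0, 0, 0, 1, 0, 0, 0],
      ![0, 0, 0, 0, 0, 1, 0, 0],
      ![0, 0, 0, 0, 0, 0, 1, 1],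
      ![0, 0, 0, 0, 0, 0, 0, -1]])]

/-- the matrix of `θ` -/
def Th : Mat 8 := ![![1, 0, 0, 0, 0, 0, 0, 0],
    ![0, 0, 0, 1, 0, 0, 0, 0],
    ![0, 1, 1, 1, 0, 0, 0, 0],
    ![0, 0, 0, 0, 1, 0, 0, 0],
    ![0, 0, 0, 0, 0, 1, 0, 0],
    ![0, 0, 0, 0, 0, 0, 1, 0],
    ![0, 0, 0, 0, 0, 0, 0, 1],
    ![0, -1, 0, -1, -1, -1, -1, -1]]

/-- the representatives of the orbits on the roots -/
def R : Fin 36 → Fin 8 → ℤ := ![![-2, -3, -4, -6, -5, -4, -3, -2],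
    ![-2, -3, -3, -5, -4, -3, -2, -1],
    ![-1, -3, -3, -5, -4, -3, -2, -1],
    ![-1, -2, -2, -4, -4, -3, -2, -1],
    ![-1, -2, -2, -4, -3, -3, -2, -1],
    ![-1, -2, -2, -4, -3, -2, -2, -1],
    ![-1, -2, -2, -4, -3, -2, -1, -1],
    ![-1, -2, -2, -3, -3, -2, -2, -1],
    ![-1, -1, -1, -2, -2, -2, -2, -1],
    ![-1, -1, -1, -2, -2, -2, -1, -1],
    ![-1, -1, -1, -2, -2, -1, -1, -1],
    ![-1, 0, 0, 0, 0, 0, 0, 0],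
    ![0, -1, -1, -2, -2, -2, -2, -1],
    ![0, -1, -1, -2, -2, -2, -1, -1],
    ![0, -1, -1, -2, -2, -1, -1, -1],
    ![0, -1, 0, -1, -1, -1, -1, -1],
    ![0, -1, 0, -1, -1, -1, -1, 0],
    ![0, -1, 0, -1, -1, -1, 0, 0],
    ![0, -1, 0, -1, -1, 0, 0, 0],
    ![0, -1, 0, -1, 0, 0, 0, 0],
    ![0, -1, 0, 0, 0, 0, 0, 0],
    ![0, 0, 1, 0, 0, 0, 0, 0],
    ![0, 0, 1, 1, 0, 0, 0, 0],
    ![0, 0, 1, 1, 1, 0, 0, 0],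
    ![1, 0, 0, 0, 0, 0, 0, 0],
    ![1, 0, 1, 0, 0, 0, 0, 0],
    ![1, 0, 1, 1, 0, 0, 0, 0],
    ![1, 0, 1, 1, 1, 0, 0, 0],
    ![1, 1, 2, 2, 1, 0, 0, 0],
    ![1, 1, 2, 2, 1, 1, 0, 0],
    ![1, 1, 2, 2, 1, 1, 1, 0],
    ![1, 1, 2, 2, 2, 1, 0, 0],
    ![1, 1, 2, 2, 2, 1, 1, 0],
    ![1, 2, 3, 4, 3, 2, 1, 0],
    ![2, 2, 3, 4, 3, 2, 1, 0],
    ![2, 2, 4, 5, 4, 3, 2, 1]]

/-- previous root -/
def prv (r : ℕ) : ℕ := Nat.mod (Nat.shiftRight 0xeeedecebeae8e200e9e7e6e5e400dbe1e0dfdedd00d6d2cfcdccc8c5c3c2bfbdbcbab9b8dad9d8d7d5d4d3d1d0cecbcac9c70000c1000000b5b3b2b0afaeacabaaa9a7a6a5a4a3b7b6b4000000009f9d9c9a9998969594938b8a8988877775726e695da1a09e00000091908f8e8d85848382807f7e7c7b7976747371706f6d6c6b6a6261605f5e635854514f4e00000000000068676665645c5b5a595756005300000047423e3b39384c4b4a4948464544434140003d000034312f2e2b2928262524211f1e1c1b1a181716153736353332302d2c00272300000000131211100f0e000c0b0a0908060000070504030200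 (8 * r)) 256

/-- depth -/
def dep (r : ℕ) : ℕ := Nat.mod (Nat.shiftRight 0x60504030201010002030405060001020304050600030402020204050303050101010101040503030506040602020506040600000600000005040403030306020202060501010106050400000000050404030303060202020605010101060504030201060504000000060504030206050403060504060506050404030303020202020101010101020304010101000000000000030405020204050603050600060000000203040101010304050202040506030506000600000405030305020402020205040406010301010101050604060303060500020600000000060504030201000605040302010100020304050600 (8 * r)) 256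

theorem hA : ∀ i j, Am i j = cartanOf chevE8 8 i j := by decide +kernel

theorem chainOK : ChainOK Am chain := by decide +kernel

theorem hd_eq : hd chain = Th := rfl

theorem word_eq : chain.map Prod.fst = word := rfl

theorem rootOK : RootOK chevE8 8 Th R prv dep := by decide +kernel

theorem word_ne : ∀ i ∈ word, i ≠ 0 := by decide

theorem word_orth : ∀ i ∈ word, Am i 0 = 0 := by decide +kernel

theorem Am_two : Am 0 2 = -1 := by decide +kernel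

/-- a root with a positive coefficient of `α₁` and coefficient `0` of `α₃` is `α₁` -/
theorem sep : ∀ r : Fin chevE8.nroots, 0 < rt chevE8 r 0 → rt chevE8 r 2 = 0 → ∀ i : Fin 8, i ≠ 0 → rt chevE8 r i = 0 := by
  decide +kernel

/-- the values of the functional on the simple roots -/
def cf (q : ℤ) : Fin 8 → ℤ := ![0, -1 + q ^ 6, q + q ^ 2 + q ^ 3 + q ^ 4 + q ^ 5, 1 - q, q - q ^ 2, q ^ 2 - q ^ 3, q ^ 3 - q ^ 4, q ^ 4 - q ^ 5]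

/-- the functional -/
def Gf (q : ℤ) (x : Fin 8 → ℤ) : ℤ := ∑ i, x i * cf q i

theorem Gf_th (q : ℤ) : ∀ j, ∑ m, Th j m * cf q m = q * cf q j + if j = 1 then 1 - q ^ 7 else 0 := by
  intro j
  fin_cases j <;> simp [Th, cf, Fin.sum_univ_succ] <;> ring

theorem G_0 (x : ℤ) : Gf x (R 0) = -3 - 3 * x - 3 * x ^ 2 - 3 * x ^ 3 - 3 * x ^ 4 - 2 * x ^ 5 - 3 * x ^ 6 := by
  unfold Gf R cf
  simp [Fin.sum_univ_succ]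
  try ring

theorem bez_0 (x : ℤ) : (1 - x + 3 * x ^ 2) * (1 + x + x ^ 2 + x ^ 3 + x ^ 4 + x ^ 5 + x ^ 6) + (x ^ 2) * (-3 - 3 * x - 3 * x ^ 2 - 3 * x ^ 3 - 3 * x ^ 4 - 2 * x ^ 5 - 3 * x ^ 6) = 1 := by
  ring

theorem G_1 (x : ℤ) : Gf x (R 1) = -2 - 2 * x - 2 * x ^ 2 - 2 * x ^ 3 - 2 * x ^ 4 - 2 * x ^ 5 - 3 * x ^ 6 := by
  unfold Gf R cf
  simp [Fin.sum_univ_succ]
  try ring

theorem bez_1 (x : ℤ) : (1 - 3 * x) * (1 + x + x ^ 2 + x ^ 3 + x ^ 4 + x ^ 5 + x ^ 6) + (-x) * (-2 - 2 * x - 2 * x ^ 2 - 2 * x ^ 3 - 2 * x ^ 4 - 2 * x ^ 5 - 3 * x ^ 6) = 1 := by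
  ring

theorem G_2 (x : ℤ) : Gf x (R 2) = -2 - 2 * x - 2 * x ^ 2 - 2 * x ^ 3 - 2 * x ^ 4 - 2 * x ^ 5 - 3 * x ^ 6 := by
  unfold Gf R cf
  simp [Fin.sum_univ_succ]
  try ring

theorem bez_2 (x : ℤ) : (1 - 3 * x) * (1 + x + x ^ 2 + x ^ 3 + x ^ 4 + x ^ 5 + x ^ 6) + (-x) * (-2 - 2 * x - 2 * x ^ 2 - 2 * x ^ 3 - 2 * x ^ 4 - 2 * x ^ 5 - 3 * x ^ 6) = 1 := by
  ring

theorem G_3 (x : ℤ) : Gf x (R 3) = -2 - 2 * x - x ^ 2 - x ^ 3 - x ^ 4 - x ^ 5 - 2 * x ^ 6 := by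
  unfold Gf R cf
  simp [Fin.sum_univ_succ]
  try ring

theorem bez_3 (x : ℤ) : (1 - x + 2 * x ^ 2 - x ^ 4 + 2 * x ^ 5) * (1 + x + x ^ 2 + x ^ 3 + x ^ 4 + x ^ 5 + x ^ 6) + (x ^ 2 + x ^ 5) * (-2 - 2 * x - x ^ 2 - x ^ 3 - x ^ 4 - x ^ 5 - 2 * x ^ 6) = 1 := by
  ring

theorem G_4 (x : ℤ) : Gf x (R 4) = -2 - x - 2 * x ^ 2 - x ^ 3 - x ^ 4 - x ^ 5 - 2 * x ^ 6 := by
  unfold Gf R cf
  simp [Fin.sum_univ_succ]
  try ring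

theorem bez_4 (x : ℤ) : (-3 * x + x ^ 4 - 2 * x ^ 5) * (1 + x + x ^ 2 + x ^ 3 + x ^ 4 + x ^ 5 + x ^ 6) + (-1 - x - x ^ 5) * (-2 - x - 2 * x ^ 2 - x ^ 3 - x ^ 4 - x ^ 5 - 2 * x ^ 6) = 2 := by
  ring

theorem G_5 (x : ℤ) : Gf x (R 5) = -2 - x - x ^ 2 - 2 * x ^ 3 - x ^ 4 - x ^ 5 - 2 * x ^ 6 := by
  unfold Gf R cf
  simp [Fin.sum_univ_succ]
  try ring

theorem bez_5 (x : ℤ) : (1 - x + 2 * x ^ 3 - x ^ 4 + 2 * x ^ 5) * (1 + x + x ^ 2 + x ^ 3 + x ^ 4 + x ^ 5 + x ^ 6) + (x ^ 3 + x ^ 5) * (-2 - x - x ^ 2 - 2 * x ^ 3 - x ^ 4 - x ^ 5 - 2 * x ^ 6) = 1 := by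
  ring

theorem G_6 (x : ℤ) : Gf x (R 6) = -2 - x - x ^ 2 - x ^ 3 - 2 * x ^ 4 - x ^ 5 - 2 * x ^ 6 := by
  unfold Gf R cf
  simp [Fin.sum_univ_succ]
  try ring

theorem bez_6 (x : ℤ) : (-3 * x + x ^ 2 - 2 * x ^ 3) * (1 + x + x ^ 2 + x ^ 3 + x ^ 4 + x ^ 5 + x ^ 6) + (-1 - x - x ^ 3) * (-2 - x - x ^ 2 - x ^ 3 - 2 * x ^ 4 - x ^ 5 - 2 * x ^ 6) = 2 := by
  ring

theorem G_7 (x : ℤ) : Gf x (R 7) = -1 - 2 * x - x ^ 2 - 2 * x ^ 3 - x ^ 4 - x ^ 5 - 2 * x ^ 6 := by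
  unfold Gf R cf
  simp [Fin.sum_univ_succ]
  try ring

theorem bez_7 (x : ℤ) : (1 - x + x ^ 2 + 2 * x ^ 3) * (1 + x + x ^ 2 + x ^ 3 + x ^ 4 + x ^ 5 + x ^ 6) + (x ^ 2 + x ^ 3) * (-1 - 2 * x - x ^ 2 - 2 * x ^ 3 - x ^ 4 - x ^ 5 - 2 * x ^ 6) = 1 := by
  ring

theorem G_8 (x : ℤ) : Gf x (R 8) = -1 - x - x ^ 2 - x ^ 3 - x ^ 6 := by
  unfold Gf R cf
  simp [Fin.sum_univ_succ]
  try ring

theorem bez_8 (x : ℤ) : (2 - x + x ^ 2 + x ^ 3 - x ^ 4 + x ^ 5) * (1 + x + x ^ 2 + x ^ 3 + x ^ 4 + x ^ 5 + x ^ 6) + (1 + x ^ 2 + x ^ 3 + x ^ 5) * (-1 - x - x ^ 2 - x ^ 3 - x ^ 6) = 1 := by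
  ring

theorem G_9 (x : ℤ) : Gf x (R 9) = -1 - x - x ^ 2 - x ^ 4 - x ^ 6 := by
  unfold Gf R cf
  simp [Fin.sum_univ_succ]
  try ring

theorem bez_9 (x : ℤ) : (1 + x ^ 2 + x ^ 5) * (1 + x + x ^ 2 + x ^ 3 + x ^ 4 + x ^ 5 + x ^ 6) + (x + x ^ 2 + x ^ 4 + x ^ 5) * (-1 - x - x ^ 2 - x ^ 4 - x ^ 6) = 1 := by
  ring

theorem G_10 (x : ℤ) : Gf x (R 10) = -1 - x - x ^ 3 - x ^ 4 - x ^ 6 := by
  unfold Gf R cf
  simp [Fin.sum_univ_succ]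
  try ring

theorem bez_10 (x : ℤ) : (1 - x + x ^ 2 + x ^ 3 + x ^ 5) * (1 + x + x ^ 2 + x ^ 3 + x ^ 4 + x ^ 5 + x ^ 6) + (x ^ 2 + x ^ 3 + x ^ 4 + x ^ 5) * (-1 - x - x ^ 3 - x ^ 4 - x ^ 6) = 1 := by
  ring

theorem G_12 (x : ℤ) : Gf x (R 12) = -1 - x - x ^ 2 - x ^ 3 - x ^ 6 := by
  unfold Gf R cf
  simp [Fin.sum_univ_succ]
  try ring

theorem bez_12 (x : ℤ) : (2 - x + x ^ 2 + x ^ 3 - x ^ 4 + x ^ 5) * (1 + x + x ^ 2 + x ^ 3 + x ^ 4 + x ^ 5 + x ^ 6) + (1 + x ^ 2 + x ^ 3 + x ^ 5) * (-1 - x - x ^ 2 - x ^ 3 - x ^ 6) = 1 := by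
  ring

theorem G_13 (x : ℤ) : Gf x (R 13) = -1 - x - x ^ 2 - x ^ 4 - x ^ 6 := by
  unfold Gf R cf
  simp [Fin.sum_univ_succ]
  try ring

theorem bez_13 (x : ℤ) : (1 + x ^ 2 + x ^ 5) * (1 + x + x ^ 2 + x ^ 3 + x ^ 4 + x ^ 5 + x ^ 6) + (x + x ^ 2 + x ^ 4 + x ^ 5) * (-1 - x - x ^ 2 - x ^ 4 - x ^ 6) = 1 := by
  ring

theorem G_14 (x : ℤ) : Gf x (R 14) = -1 - x - x ^ 3 - x ^ 4 - x ^ 6 := by
  unfold Gf R cf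
  simp [Fin.sum_univ_succ]
  try ring

theorem bez_14 (x : ℤ) : (1 - x + x ^ 2 + x ^ 3 + x ^ 5) * (1 + x + x ^ 2 + x ^ 3 + x ^ 4 + x ^ 5 + x ^ 6) + (x ^ 2 + x ^ 3 + x ^ 4 + x ^ 5) * (-1 - x - x ^ 3 - x ^ 4 - x ^ 6) = 1 := by
  ring

theorem G_15 (x : ℤ) : Gf x (R 15) = x ^ 5 - x ^ 6 := by
  unfold Gf R cf
  simp [Fin.sum_univ_succ]
  try ring

theorem bez_15 (x : ℤ) : (7 - 7 * x + x ^ 5) * (1 + x + x ^ 2 + x ^ 3 + x ^ 4 + x ^ 5 + x ^ 6) + (-1 - 2 * x + 4 * x ^ 2 + 3 * x ^ 3 + 2 * x ^ 4 + x ^ 5) * (x ^ 5 - x ^ 6) = 7 := by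
  ring

theorem G_16 (x : ℤ) : Gf x (R 16) = x ^ 4 - x ^ 6 := by
  unfold Gf R cf
  simp [Fin.sum_univ_succ]
  try ring

theorem bez_16 (x : ℤ) : (7 - 7 * x - 3 * x ^ 4 + 4 * x ^ 5) * (1 + x + x ^ 2 + x ^ 3 + x ^ 4 + x ^ 5 + x ^ 6) + (3 - x + 2 * x ^ 2 + 5 * x ^ 3 + x ^ 4 + 4 * x ^ 5) * (x ^ 4 - x ^ 6) = 7 := by
  ring

theorem G_17 (x : ℤ) : Gf x (R 17) = x ^ 3 - x ^ 6 := by
  unfold Gf R cf
  simp [Fin.sum_univ_succ]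
  try ring

theorem bez_17 (x : ℤ) : (7 - 7 * x - 2 * x ^ 3 + 5 * x ^ 4 - 2 * x ^ 5) * (1 + x + x ^ 2 + x ^ 3 + x ^ 4 + x ^ 5 + x ^ 6) + (2 - 3 * x - x ^ 2 + x ^ 3 + 3 * x ^ 4 - 2 * x ^ 5) * (x ^ 3 - x ^ 6) = 7 := by
  ring

theorem G_18 (x : ℤ) : Gf x (R 18) = x ^ 2 - x ^ 6 := by
  unfold Gf R cf
  simp [Fin.sum_univ_succ]
  try ring

theorem bez_18 (x : ℤ) : (7 - 7 * x + 2 * x ^ 2 + 2 * x ^ 3 - 5 * x ^ 4 + 2 * x ^ 5) * (1 + x + x ^ 2 + x ^ 3 + x ^ 4 + x ^ 5 + x ^ 6) + (-2 - 4 * x + x ^ 2 - x ^ 3 - 3 * x ^ 4 + 2 * x ^ 5) * (x ^ 2 - x ^ 6) = 7 := by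
  ring

theorem G_19 (x : ℤ) : Gf x (R 19) = x - x ^ 6 := by
  unfold Gf R cf
  simp [Fin.sum_univ_succ]
  try ring

theorem bez_19 (x : ℤ) : (7 - 4 * x + 3 * x ^ 2 - 4 * x ^ 3 + 3 * x ^ 4 - 4 * x ^ 5) * (1 + x + x ^ 2 + x ^ 3 + x ^ 4 + x ^ 5 + x ^ 6) + (-3 - 6 * x - 2 * x ^ 2 - 5 * x ^ 3 - x ^ 4 - 4 * x ^ 5) * (x - x ^ 6) = 7 := by
  ring

theorem G_20 (x : ℤ) : Gf x (R 20) = 1 - x ^ 6 := by
  unfold Gf R cf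
  simp [Fin.sum_univ_succ]
  try ring

theorem bez_20 (x : ℤ) : (6 - x - x ^ 2 - x ^ 3 - x ^ 4 - x ^ 5) * (1 + x + x ^ 2 + x ^ 3 + x ^ 4 + x ^ 5 + x ^ 6) + (1 - 5 * x - 4 * x ^ 2 - 3 * x ^ 3 - 2 * x ^ 4 - x ^ 5) * (1 - x ^ 6) = 7 := by
  ring

theorem G_21 (x : ℤ) : Gf x (R 21) = x + x ^ 2 + x ^ 3 + x ^ 4 + x ^ 5 := by
  unfold Gf R cf
  simp [Fin.sum_univ_succ]
  try ring

theorem bez_21 (x : ℤ) : (1 + x ^ 2 + x ^ 4) * (1 + x + x ^ 2 + x ^ 3 + x ^ 4 + x ^ 5 + x ^ 6) + (-1 - x - x ^ 3 - x ^ 5) * (x + x ^ 2 + x ^ 3 + x ^ 4 + x ^ 5) = 1 := by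
  ring

theorem G_22 (x : ℤ) : Gf x (R 22) = 1 + x ^ 2 + x ^ 3 + x ^ 4 + x ^ 5 := by
  unfold Gf R cf
  simp [Fin.sum_univ_succ]
  try ring

theorem bez_22 (x : ℤ) : (-x ^ 2 - x ^ 3) * (1 + x + x ^ 2 + x ^ 3 + x ^ 4 + x ^ 5 + x ^ 6) + (1 + x ^ 3 + x ^ 4) * (1 + x ^ 2 + x ^ 3 + x ^ 4 + x ^ 5) = 1 := by
  ring

theorem G_23 (x : ℤ) : Gf x (R 23) = 1 + x + x ^ 3 + x ^ 4 + x ^ 5 := by
  unfold Gf R cf
  simp [Fin.sum_univ_succ]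
  try ring

theorem bez_23 (x : ℤ) : (1 - x - x ^ 2 - x ^ 3) * (1 + x + x ^ 2 + x ^ 3 + x ^ 4 + x ^ 5 + x ^ 6) + (x ^ 2 + x ^ 3 + x ^ 4) * (1 + x + x ^ 3 + x ^ 4 + x ^ 5) = 1 := by
  ring

theorem G_25 (x : ℤ) : Gf x (R 25) = x + x ^ 2 + x ^ 3 + x ^ 4 + x ^ 5 := by
  unfold Gf R cf
  simp [Fin.sum_univ_succ]
  try ring

theorem bez_25 (x : ℤ) : (1 + x ^ 2 + x ^ 4) * (1 + x + x ^ 2 + x ^ 3 + x ^ 4 + x ^ 5 + x ^ 6) + (-1 - x - x ^ 3 - x ^ 5) * (x + x ^ 2 + x ^ 3 + x ^ 4 + x ^ 5) = 1 := by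
  ring

theorem G_26 (x : ℤ) : Gf x (R 26) = 1 + x ^ 2 + x ^ 3 + x ^ 4 + x ^ 5 := by
  unfold Gf R cf
  simp [Fin.sum_univ_succ]
  try ring

theorem bez_26 (x : ℤ) : (-x ^ 2 - x ^ 3) * (1 + x + x ^ 2 + x ^ 3 + x ^ 4 + x ^ 5 + x ^ 6) + (1 + x ^ 3 + x ^ 4) * (1 + x ^ 2 + x ^ 3 + x ^ 4 + x ^ 5) = 1 := by
  ring

theorem G_27 (x : ℤ) : Gf x (R 27) = 1 + x + x ^ 3 + x ^ 4 + x ^ 5 := by
  unfold Gf R cf
  simp [Fin.sum_univ_succ]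
  try ring

theorem bez_27 (x : ℤ) : (1 - x - x ^ 2 - x ^ 3) * (1 + x + x ^ 2 + x ^ 3 + x ^ 4 + x ^ 5 + x ^ 6) + (x ^ 2 + x ^ 3 + x ^ 4) * (1 + x + x ^ 3 + x ^ 4 + x ^ 5) = 1 := by
  ring

theorem G_28 (x : ℤ) : Gf x (R 28) = 1 + x + x ^ 2 + 2 * x ^ 3 + 2 * x ^ 4 + 2 * x ^ 5 + x ^ 6 := by
  unfold Gf R cf
  simp [Fin.sum_univ_succ]
  try ring

theorem bez_28 (x : ℤ) : (1 + x ^ 4 + x ^ 5) * (1 + x + x ^ 2 + x ^ 3 + x ^ 4 + x ^ 5 + x ^ 6) + (-x - x ^ 5) * (1 + x + x ^ 2 + 2 * x ^ 3 + 2 * x ^ 4 + 2 * x ^ 5 + x ^ 6) = 1 := by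
  ring

theorem G_29 (x : ℤ) : Gf x (R 29) = 1 + x + 2 * x ^ 2 + x ^ 3 + 2 * x ^ 4 + 2 * x ^ 5 + x ^ 6 := by
  unfold Gf R cf
  simp [Fin.sum_univ_succ]
  try ring

theorem bez_29 (x : ℤ) : (2 - 2 * x - x ^ 2 - x ^ 3 - x ^ 4 - x ^ 5) * (1 + x + x ^ 2 + x ^ 3 + x ^ 4 + x ^ 5 + x ^ 6) + (x ^ 2 + x ^ 3 + x ^ 5) * (1 + x + 2 * x ^ 2 + x ^ 3 + 2 * x ^ 4 + 2 * x ^ 5 + x ^ 6) = 2 := by
  ring

theorem G_30 (x : ℤ) : Gf x (R 30) = 1 + x + 2 * x ^ 2 + 2 * x ^ 3 + x ^ 4 + 2 * x ^ 5 + x ^ 6 := by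
  unfold Gf R cf
  simp [Fin.sum_univ_succ]
  try ring

theorem bez_30 (x : ℤ) : (2 - 2 * x - x ^ 2 - 2 * x ^ 4 - x ^ 5) * (1 + x + x ^ 2 + x ^ 3 + x ^ 4 + x ^ 5 + x ^ 6) + (x ^ 2 + x ^ 4 + x ^ 5) * (1 + x + 2 * x ^ 2 + 2 * x ^ 3 + x ^ 4 + 2 * x ^ 5 + x ^ 6) = 2 := by
  ring

theorem G_31 (x : ℤ) : Gf x (R 31) = 1 + 2 * x + x ^ 2 + x ^ 3 + 2 * x ^ 4 + 2 * x ^ 5 + x ^ 6 := by
  unfold Gf R cf
  simp [Fin.sum_univ_succ]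
  try ring

theorem bez_31 (x : ℤ) : (2 - x ^ 2 + x ^ 4 + x ^ 5) * (1 + x + x ^ 2 + x ^ 3 + x ^ 4 + x ^ 5 + x ^ 6) + (-1 - x ^ 5) * (1 + 2 * x + x ^ 2 + x ^ 3 + 2 * x ^ 4 + 2 * x ^ 5 + x ^ 6) = 1 := by
  ring

theorem G_32 (x : ℤ) : Gf x (R 32) = 1 + 2 * x + x ^ 2 + 2 * x ^ 3 + x ^ 4 + 2 * x ^ 5 + x ^ 6 := by
  unfold Gf R cf
  simp [Fin.sum_univ_succ]
  try ring

theorem bez_32 (x : ℤ) : (2 + x) * (1 + x + x ^ 2 + x ^ 3 + x ^ 4 + x ^ 5 + x ^ 6) + (-1 - x) * (1 + 2 * x + x ^ 2 + 2 * x ^ 3 + x ^ 4 + 2 * x ^ 5 + x ^ 6) = 1 := by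
  ring

theorem G_33 (x : ℤ) : Gf x (R 33) = 2 + 2 * x + 2 * x ^ 2 + 2 * x ^ 3 + 2 * x ^ 4 + 3 * x ^ 5 + 2 * x ^ 6 := by
  unfold Gf R cf
  simp [Fin.sum_univ_succ]
  try ring

theorem bez_33 (x : ℤ) : (1 - x - 2 * x ^ 2) * (1 + x + x ^ 2 + x ^ 3 + x ^ 4 + x ^ 5 + x ^ 6) + (x ^ 2) * (2 + 2 * x + 2 * x ^ 2 + 2 * x ^ 3 + 2 * x ^ 4 + 3 * x ^ 5 + 2 * x ^ 6) = 1 := by
  ring

theorem G_34 (x : ℤ) : Gf x (R 34) = 2 + 2 * x + 2 * x ^ 2 + 2 * x ^ 3 + 2 * x ^ 4 + 3 * x ^ 5 + 2 * x ^ 6 := by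
  unfold Gf R cf
  simp [Fin.sum_univ_succ]
  try ring

theorem bez_34 (x : ℤ) : (1 - x - 2 * x ^ 2) * (1 + x + x ^ 2 + x ^ 3 + x ^ 4 + x ^ 5 + x ^ 6) + (x ^ 2) * (2 + 2 * x + 2 * x ^ 2 + 2 * x ^ 3 + 2 * x ^ 4 + 3 * x ^ 5 + 2 * x ^ 6) = 1 := by
  ring

theorem G_35 (x : ℤ) : Gf x (R 35) = 3 + 3 * x + 3 * x ^ 2 + 3 * x ^ 3 + 3 * x ^ 4 + 3 * x ^ 5 + 2 * x ^ 6 := by
  unfold Gf R cf
  simp [Fin.sum_univ_succ]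
  try ring

theorem bez_35 (x : ℤ) : (1 + 2 * x) * (1 + x + x ^ 2 + x ^ 3 + x ^ 4 + x ^ 5 + x ^ 6) + (-x) * (3 + 3 * x + 3 * x ^ 2 + 3 * x ^ 3 + 3 * x ^ 4 + 3 * x ^ 5 + 2 * x ^ 6) = 1 := by
  ring

/-- the two fixed roots, common divisors of `Φ₇(x)` and the values of the functional at the other representatives -/
theorem dvd_of_G {x r : ℤ} (h : r ∣ 1 + x + x ^ 2 + x ^ 3 + x ^ 4 + x ^ 5 + x ^ 6) (s : Fin 36) :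
    R s = ![1, 0, 0, 0, 0, 0, 0, 0] ∨ R s = ![-1, 0, 0, 0, 0, 0, 0, 0] ∨ (r ∣ Gf x (R s) → r ∣ 14) := by
  have key : ∀ {a b g : ℤ} {y : ℤ}, a * (1 + x + x ^ 2 + x ^ 3 + x ^ 4 + x ^ 5 + x ^ 6) + b * g = y → y ∣ 14 → r ∣ g →
      r ∣ 14 := fun e h14 hg => by
    refine dvd_trans ?_ h14
    rw [← e]
    exact dvd_add (h.mul_left _) (hg.mul_left _)
  fin_cases s
  · exact Or.inr (Or.inr fun hs => key (bez_0 x) (by decide) (by rw [← G_0]; exact hs))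
  · exact Or.inr (Or.inr fun hs => key (bez_1 x) (by decide) (by rw [← G_1]; exact hs))
  · exact Or.inr (Or.inr fun hs => key (bez_2 x) (by decide) (by rw [← G_2]; exact hs))
  · exact Or.inr (Or.inr fun hs => key (bez_3 x) (by decide) (by rw [← G_3]; exact hs))
  · exact Or.inr (Or.inr fun hs => key (bez_4 x) (by decide) (by rw [← G_4]; exact hs))
  · exact Or.inr (Or.inr fun hs => key (bez_5 x) (by decide) (by rw [← G_5]; exact hs))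
  · exact Or.inr (Or.inr fun hs => key (bez_6 x) (by decide) (by rw [← G_6]; exact hs))
  · exact Or.inr (Or.inr fun hs => key (bez_7 x) (by decide) (by rw [← G_7]; exact hs))
  · exact Or.inr (Or.inr fun hs => key (bez_8 x) (by decide) (by rw [← G_8]; exact hs))
  · exact Or.inr (Or.inr fun hs => key (bez_9 x) (by decide) (by rw [← G_9]; exact hs))
  · exact Or.inr (Or.inr fun hs => key (bez_10 x) (by decide) (by rw [← G_10]; exact hs))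
  · exact Or.inr (Or.inl rfl)
  · exact Or.inr (Or.inr fun hs => key (bez_12 x) (by decide) (by rw [← G_12]; exact hs))
  · exact Or.inr (Or.inr fun hs => key (bez_13 x) (by decide) (by rw [← G_13]; exact hs))
  · exact Or.inr (Or.inr fun hs => key (bez_14 x) (by decide) (by rw [← G_14]; exact hs))
  · exact Or.inr (Or.inr fun hs => key (bez_15 x) (by decide) (by rw [← G_15]; exact hs))
  · exact Or.inr (Or.inr fun hs => key (bez_16 x) (by decide) (by rw [← G_16]; exact hs))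
  · exact Or.inr (Or.inr fun hs => key (bez_17 x) (by decide) (by rw [← G_17]; exact hs))
  · exact Or.inr (Or.inr fun hs => key (bez_18 x) (by decide) (by rw [← G_18]; exact hs))
  · exact Or.inr (Or.inr fun hs => key (bez_19 x) (by decide) (by rw [← G_19]; exact hs))
  · exact Or.inr (Or.inr fun hs => key (bez_20 x) (by decide) (by rw [← G_20]; exact hs))
  · exact Or.inr (Or.inr fun hs => key (bez_21 x) (by decide) (by rw [← G_21]; exact hs))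
  · exact Or.inr (Or.inr fun hs => key (bez_22 x) (by decide) (by rw [← G_22]; exact hs))
  · exact Or.inr (Or.inr fun hs => key (bez_23 x) (by decide) (by rw [← G_23]; exact hs))
  · exact Or.inl rfl
  · exact Or.inr (Or.inr fun hs => key (bez_25 x) (by decide) (by rw [← G_25]; exact hs))
  · exact Or.inr (Or.inr fun hs => key (bez_26 x) (by decide) (by rw [← G_26]; exact hs))
  · exact Or.inr (Or.inr fun hs => key (bez_27 x) (by decide) (by rw [← G_27]; exact hs))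
  · exact Or.inr (Or.inr fun hs => key (bez_28 x) (by decide) (by rw [← G_28]; exact hs))
  · exact Or.inr (Or.inr fun hs => key (bez_29 x) (by decide) (by rw [← G_29]; exact hs))
  · exact Or.inr (Or.inr fun hs => key (bez_30 x) (by decide) (by rw [← G_30]; exact hs))
  · exact Or.inr (Or.inr fun hs => key (bez_31 x) (by decide) (by rw [← G_31]; exact hs))
  · exact Or.inr (Or.inr fun hs => key (bez_32 x) (by decide) (by rw [← G_32]; exact hs))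
  · exact Or.inr (Or.inr fun hs => key (bez_33 x) (by decide) (by rw [← G_33]; exact hs))
  · exact Or.inr (Or.inr fun hs => key (bez_34 x) (by decide) (by rw [← G_34]; exact hs))
  · exact Or.inr (Or.inr fun hs => key (bez_35 x) (by decide) (by rw [← G_35]; exact hs))

end Cfsg.Agent.H448.Van.DataE8s
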