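import Cfsg.Agent.H448.FprExc.RowCyc
import Cfsg.Agent.H129.CycT2
import Cfsg.Agent.Lib.Zsigmondy

/-!
# Good primes (helper448, S4842)

* `Good G p r` : `r` is a prime whose Sylow subgroups are cyclic, with an element `z` of order `r` whose centraliser is
  an abelian `p'`-group, and the `r`-singular elements form at least two classes;
* `good_of` : from `CycAt`;
* `exists_not_conj` : from the index of the centraliser in the normaliser;
* `exists_prim` : the primes.
-/

set_option autoImplicit false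

namespace Cfsg.Agent.H448.Van

open Subgroup Cfsg.Agent.H129 Cfsg.Agent.H129.CycT

/-- `r` is a good prime for the group `G` of Lie type in characteristic `p` -/
structure Good (G : Type*) [Group G] (p r : ℕ) : Prop where
  prime : r.Prime
  ne : r ≠ p
  ex : ∃ (R : Sylow r G) (z : G), IsCyclic R ∧ z ∈ R ∧ orderOf z = r ∧
    centralizer ({z} : Set G) ≤ centralizer ((R : Subgroup G) : Set G) ∧
    Nat.Coprime p (Nat.card (centralizer ({z} : Set G))) ∧
    (Nat.card (centralizer ({z} : Set G)) ≠ r ∨ ∃ i : ℕ, i.Coprime r ∧ ¬ IsConj z (z ^ i))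

section Conj

variable {G : Type*} [Group G] [Finite G] {r : ℕ}

theorem exists_not_conj {x : G} (hr : r.Prime) (hx : orderOf x = r) {n : ℕ}
    (hn : Nat.card (normalizer ((zpowers x : Subgroup G) : Set G)) = Nat.card (centralizer ({x} : Set G)) * n)
    (h : n < r - 1) : ∃ i : ℕ, i.Coprime r ∧ ¬ IsConj x (x ^ i) := by
  by_contra! hcon
  have : Fact r.Prime := ⟨hr⟩
  obtain ⟨g, hg⟩ := IsCyclic.exists_generator (α := (ZMod r)ˣ)
  have hgo : orderOf g = r - 1 := by
    rw [orderOf_eq_card_of_forall_mem_zpowers hg, Nat.card_eq_fintype_card, ZMod.card_units_eq_totient,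
      Nat.totient_prime hr]
  obtain ⟨j, hj⟩ : ∃ j : ℕ, (j : ZMod r) = (g : ZMod r) := ⟨(g : ZMod r).val, by rw [ZMod.natCast_val, ZMod.cast_id]⟩
  have hjc : j.Coprime r := by
    rw [← ZMod.isUnit_iff_coprime, hj]
    exact g.isUnit
  obtain ⟨y, hy⟩ := isConj_iff.1 (hcon j hjc)
  have hyN : y ∈ normalizer ((zpowers x : Subgroup G) : Set G) := by
    refine mem_normalizer_fintype fun a ha => ?_
    obtain ⟨k, rfl⟩ := mem_zpowers_iff.1 ha
    rw [← conj_zpow, hy]
    exact zpow_mem (pow_mem (mem_zpowers x) j) k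
  have hcN : centralizer ({x} : Set G) ≤ normalizer ((zpowers x : Subgroup G) : Set G) := by
    intro c hc
    refine mem_normalizer_fintype fun a ha => ?_
    obtain ⟨k, rfl⟩ := mem_zpowers_iff.1 ha
    have h1 : c * x * c⁻¹ = x := by rw [mem_centralizer_singleton_iff.1 hc]; group
    rw [← conj_zpow, h1]
    exact zpow_mem (mem_zpowers x) k
  have hinj : Function.Injective (fun a : Fin (r - 1) × ↥(centralizer ({x} : Set G)) =>
      (⟨y ^ (a.1 : ℕ) * a.2, mul_mem (pow_mem hyN _) (hcN a.2.2)⟩ :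
        ↥(normalizer ((zpowers x : Subgroup G) : Set G)))) := by
    rintro ⟨i, c⟩ ⟨i', c'⟩ heq
    have h1 : y ^ (i : ℕ) * c = y ^ (i' : ℕ) * c' := congrArg Subtype.val heq
    have key : ∀ (i : ℕ) (c : ↥(centralizer ({x} : Set G))), y ^ i * c * x * (y ^ i * c)⁻¹ = x ^ j ^ i := by
      intro i c
      rw [← Cfsg.Agent.H448.FprExc.conj_pow_iter hy i]
      have := mem_centralizer_singleton_iff.1 c.2
      rw [mul_inv_rev, mul_assoc (y ^ i) _ x, this]
      group
    have h2 : x ^ j ^ (i : ℕ) = x ^ j ^ (i' : ℕ) := by rw [← key i c, ← key i' c', h1]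
    rw [pow_eq_pow_iff_modEq, hx, ← ZMod.natCast_eq_natCast_iff] at h2
    push_cast at h2
    rw [hj] at h2
    have h3 : g ^ (i : ℕ) = g ^ (i' : ℕ) := Units.ext (by push_cast; exact h2)
    rw [pow_eq_pow_iff_modEq, hgo] at h3
    have h4 : (i : ℕ) = i' := by
      rw [Nat.ModEq, Nat.mod_eq_of_lt i.2, Nat.mod_eq_of_lt i'.2] at h3
      exact h3
    rw [h4] at h1
    have h5 := mul_left_cancel h1
    exact Prod.ext (Fin.ext h4) (Subtype.ext h5)
  have h1 := Nat.card_le_card_of_injective _ hinj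
  rw [Nat.card_prod, hn, Nat.card_fin, mul_comm] at h1
  have := Nat.le_of_mul_le_mul_left h1 Nat.card_pos
  omega

/-- **Sylow's theorem modulo `r`**: the index of the centraliser in the normaliser of a self-centralising subgroup of
order `r`. -/
theorem exists_not_conj_of_card {x : G} (hr : r.Prime) (hx : orderOf x = r)
    (hc : Nat.card (centralizer ({x} : Set G)) = r) {m : ℕ} (hm : Nat.card G = r * m) (h : (m + 1) % r ≠ 0) :
    ∃ i : ℕ, i.Coprime r ∧ ¬ IsConj x (x ^ i) := by
  have : Fact r.Prime := ⟨hr⟩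
  obtain ⟨y, j, hyj, hcard⟩ := Cfsg.Agent.H448.FprExc.exists_gen hx
  have hpx : IsPGroup r (zpowers x) := IsPGroup.of_card (n := 1) (by rw [Nat.card_zpowers, hx, pow_one])
  obtain ⟨P, hP⟩ := hpx.exists_le_sylow
  have hTx : centralizer ({x} : Set G) = zpowers x := by
    have h1 : zpowers x ≤ centralizer ({x} : Set G) := by
      rw [zpowers_le]; exact mem_centralizer_singleton_iff.2 rfl
    exact (eq_of_le_of_card_ge h1 (by rw [hc, Nat.card_zpowers, hx])).symm
  have hcent : ∀ z ∈ zpowers x, orderOf z = r → centralizer ({z} : Set G) ≤ zpowers x := by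
    intro z hz hzr
    have h1 : zpowers z = zpowers x :=
      eq_of_le_of_card_ge (by rw [zpowers_le]; exact hz) (by rw [Nat.card_zpowers, Nat.card_zpowers, hx, hzr])
    have h2 : x ∈ zpowers z := by rw [h1]; exact mem_zpowers x
    obtain ⟨k, hk⟩ := mem_zpowers_iff.1 h2
    rw [← hTx]
    intro a ha
    rw [mem_centralizer_singleton_iff] at ha ⊢
    rw [← hk]
    exact (Commute.zpow_right (show Commute a z from ha) k)
  have hPx : (P : Subgroup G) = zpowers x := by
    have h1 := Cfsg.Agent.H448.FprExc.cyclic_sylow (T := zpowers x) inferInstance (mem_zpowers x) hx hcent P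
    refine le_antisymm ?_ hP
    rw [← hTx]
    exact le_centralizer_of_cyclic h1 (hP (mem_zpowers x))
  have h1 := card_sylow_modEq_one r G
  have h2 : Nat.card (Sylow r G) = (normalizer ((P : Subgroup G) : Set G)).index := P.card_eq_index_normalizer
  rw [hPx] at h2
  have h3 : Nat.card G = Nat.card (normalizer ((zpowers x : Subgroup G) : Set G)) * Nat.card (Sylow r G) := by
    rw [h2, card_mul_index]
  rw [hcard, hc, hm, mul_assoc] at h3
  have h4 : m = orderOf (j : ZMod r) * Nat.card (Sylow r G) := Nat.eq_of_mul_eq_mul_left hr.pos h3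
  have h5 : m ≡ orderOf (j : ZMod r) [MOD r] := by
    rw [h4]
    simpa using h1.mul_left (orderOf (j : ZMod r))
  have hj0 : (j : ZMod r) ≠ 0 := by
    intro h0
    rw [CharP.cast_eq_zero_iff (ZMod r) r] at h0
    obtain ⟨i, rfl⟩ := h0
    have h1 : x ^ (r * i) = 1 := by rw [pow_mul, ← hx, pow_orderOf_eq_one, one_pow]
    rw [h1] at hyj
    have h2 : x = 1 := by
      have : x = y⁻¹ * (y * x * y⁻¹) * y := by group
      rw [this, hyj]; group
    rw [h2, orderOf_one] at hx
    exact hr.one_lt.ne hx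
  refine exists_not_conj hr hx hcard (lt_of_le_of_ne ?_ ?_)
  · exact Nat.le_of_dvd (by have := hr.two_le; omega) (orderOf_dvd_of_pow_eq_one (ZMod.pow_card_sub_one_eq_one hj0))
  · intro h6
    apply h
    have h7 := h5.add_right 1
    rw [h6, Nat.sub_add_cancel hr.one_lt.le] at h7
    rw [h7]
    exact Nat.mod_self r

end Conj

section Main

variable {G : Type*} [Group G] [Finite G] {p r : ℕ}

/-- **Good primes** from the self-centralising cyclic tori. -/
theorem good_of_T (hr : r.Prime) {T : Subgroup G} (hT : IsCyclic ↥T) (hrT : r ∣ Nat.card ↥T)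
    (hcent : ∀ y ∈ T, orderOf y = r → centralizer ({y} : Set G) ≤ T)
    (hN : ∀ x ∈ T, orderOf x = r → p.Coprime (Nat.card (centralizer ({x} : Set G))))
    (h2 : ∀ x ∈ T, orderOf x = r → Nat.card (centralizer ({x} : Set G)) ≠ r ∨ ∃ i : ℕ, i.Coprime r ∧ ¬ IsConj x (x ^ i)) :
    Good G p r := by
  have : Fact r.Prime := ⟨hr⟩
  obtain ⟨⟨z, hzT⟩, hz⟩ := exists_prime_orderOf_dvd_card' r hrT
  rw [Subgroup.orderOf_mk] at hz
  have hpz : IsPGroup r (zpowers z) := IsPGroup.of_card (n := 1) (by rw [Nat.card_zpowers, hz, pow_one])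
  obtain ⟨R, hR⟩ := hpz.exists_le_sylow
  have hRc := Cfsg.Agent.H448.FprExc.cyclic_sylow hT hzT hz hcent R
  have hzR : z ∈ (R : Subgroup G) := hR (mem_zpowers z)
  have hRT : (R : Subgroup G) ≤ T := (le_centralizer_of_cyclic hRc hzR).trans (hcent z hzT hz)
  refine ⟨hr, ?_, R, z, hRc, hzR, hz, ?_, hN z hzT hz, h2 z hzT hz⟩
  · rintro rfl
    have h1 : orderOf z ∣ Nat.card (centralizer ({z} : Set G)) := by
      have h3 : z ∈ centralizer ({z} : Set G) := mem_centralizer_singleton_iff.2 rfl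
      have h4 := orderOf_dvd_natCard (⟨z, h3⟩ : ↥(centralizer ({z} : Set G)))
      rwa [Subgroup.orderOf_mk] at h4
    rw [hz] at h1
    exact hr.one_lt.ne' ((Nat.coprime_self r).1 ((hN z hzT hz).coprime_dvd_right h1))
  · refine (hcent z hzT hz).trans fun a ha => ?_
    rw [mem_centralizer_iff]
    intro b hb
    have := (IsCyclic.commGroup (α := T)).mul_comm ⟨b, hRT hb⟩ ⟨a, ha⟩
    exact congrArg Subtype.val this

omit [Finite G] in
/-- the centraliser is the torus -/
theorem cent_eq {T : Subgroup G} (hT : IsCyclic ↥T) (hcent : ∀ y ∈ T, orderOf y = r → centralizer ({y} : Set G) ≤ T)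
    {x : G} (hxT : x ∈ T) (hx : orderOf x = r) : centralizer ({x} : Set G) = T :=
  le_antisymm (hcent x hxT hx) (le_centralizer_of_cyclic hT hxT)

theorem good_of (hr : r.Prime) (hc : CycAt G r)
    (hN : ∀ x : G, orderOf x = r → p.Coprime (Nat.card (centralizer ({x} : Set G))))
    (h2 : ∀ x : G, orderOf x = r → Nat.card (centralizer ({x} : Set G)) ≠ r ∨ ∃ i : ℕ, i.Coprime r ∧ ¬ IsConj x (x ^ i)) :
    Good G p r := by
  obtain ⟨T, hT, hrT, hcent⟩ := hc
  exact good_of_T hr hT hrT hcent (fun x _ => hN x) (fun x _ => h2 x)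

/-- a torus of known order -/
theorem good_of_card (hr : r.Prime) {T : Subgroup G} (hT : IsCyclic ↥T) {M d : ℕ} (h1 : Nat.card ↥T ∣ M)
    (h2 : M ∣ d * Nat.card ↥T) (hrM : r ∣ M) (hrd : ¬ r ∣ d) (hM : p.Coprime M)
    (hcent : ∀ y ∈ T, orderOf y = r → centralizer ({y} : Set G) ≤ T)
    (h3 : ¬ M ∣ d * r ∨ ∀ x : G, orderOf x = r → Nat.card (centralizer ({x} : Set G)) = r →
      ∃ i : ℕ, i.Coprime r ∧ ¬ IsConj x (x ^ i)) :
    Good G p r := by
  have hrT : r ∣ Nat.card ↥T := (hr.dvd_mul.1 (hrM.trans h2)).resolve_left hrd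
  refine good_of_T hr hT hrT hcent (fun x hxT hx => ?_) (fun x hxT hx => ?_)
  · rw [cent_eq hT hcent hxT hx]
    exact hM.coprime_dvd_right h1
  · by_cases h4 : Nat.card (centralizer ({x} : Set G)) = r
    · rcases h3 with h3 | h3
      · rw [cent_eq hT hcent hxT hx] at h4
        rw [h4] at h2
        exact absurd h2 h3
      · exact Or.inr (h3 x hx h4)
    · exact Or.inl h4

theorem CycExact.good (hr : r.Prime) {N : ℕ} (hc : CycExact G N) (hrN : r ∣ N) (hpN : p.Coprime N)
    (h2 : N ≠ r ∨ ∀ x : G, orderOf x = r → Nat.card (centralizer ({x} : Set G)) = r →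
      ∃ i : ℕ, i.Coprime r ∧ ¬ IsConj x (x ^ i)) : Good G p r := by
  obtain ⟨T, hT, hcard, hcent⟩ := hc
  refine good_of_card hr (d := 1) hT (hcard ▸ dvd_rfl) (by rw [one_mul, hcard]) hrN
    (fun h => hr.one_lt.ne' (Nat.dvd_one.1 h)) hpN (fun y hy hyr => ?_) ?_
  · refine (hcent y hy ?_).le
    rintro rfl
    rw [orderOf_one] at hyr
    exact hr.one_lt.ne hyr
  · rcases h2 with h2 | h2
    · refine Or.inl fun h => h2 ?_
      rw [one_mul] at h
      exact Nat.dvd_antisymm h hrN
    · exact Or.inr h2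

theorem exists_prim {a d : ℕ} (hp : p.Prime) (ha : 0 < a) (h2 : 3 ≤ a * d) (h6 : ¬ (p = 2 ∧ a * d = 6)) :
    ∃ r : ℕ, r.Prime ∧ r ≠ p ∧ orderOf (p : ZMod r) = a * d ∧ orderOf ((p ^ a : ℕ) : ZMod r) = d ∧ a * d < r := by
  obtain ⟨r, hr, hord⟩ := Cfsg.Agent.Lib.Zsigmondy.exists_prime_orderOf (a := p) (n := a * d) hp.two_le (by omega)
    (by omega) h6
  have : Fact r.Prime := ⟨hr⟩
  have hp0 : (p : ZMod r) ≠ 0 := by
    intro h
    have h1 : ((0 : ZMod r)) ^ (a * d) = 1 := by rw [← h, ← hord]; exact pow_orderOf_eq_one _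
    rw [zero_pow (by omega)] at h1
    exact zero_ne_one h1
  refine ⟨r, hr, ?_, hord, ?_, ?_⟩
  · rintro rfl
    exact hp0 (CharP.cast_eq_zero (ZMod r) r)
  · push_cast
    rw [orderOf_pow' _ ha.ne', hord, Nat.gcd_mul_right_left, Nat.mul_div_cancel_left _ ha]
  · have h1 := Nat.le_of_dvd (by have := hr.two_le; omega)
      (orderOf_dvd_of_pow_eq_one (ZMod.pow_card_sub_one_eq_one hp0))
    rw [hord] at h1
    have := hr.two_le
    omega

end Main

end Cfsg.Agent.H448.Van
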