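import Mathlib
import Cfsg.Agent.H448.Van.RkSl
import Cfsg.Agent.H356.OrthTorus
import Cfsg.Agent.H695.OneZero.RankOneDef

/-!
# A centraliser of rank one in a group of fixed points (helper448)

`Fram` : `φ : SL₂(k) → Y`, a torus `T` of `Y` acting on `φ(U)`, `φ(V)` by the character `χ`, an automorphism `τ` of `Y`
acting on the image of `φ` as the Frobenius map.
`Fram.rankOne` : if the centraliser in `Y` of an element `t ^ (r ^ b)` of order `r` is `φ(SL₂(k)) T`, the group of the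
fixed points of `τ` has a configuration `RankOne`.
-/

set_option autoImplicit false
set_option linter.unusedSectionVars false

namespace Cfsg.Agent.H448.Van.Rk

open Matrix Subgroup
open Cfsg.Agent.H238.SL2Key Cfsg.Agent.H695.OneZero

universe u v w

variable {k : Type u} [Field k] [IsAlgClosed k] {F : Type u} [Field F] [Fintype F] {f : F →+* k} {fr : k →+* k} {q : ℕ}
  {Y : Type v} [Group Y] {φ : SL k →* Y} {T : Subgroup Y} {χ : Y → k} {τ : MulAut Y}

/-- The frame. -/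
structure Fram (f : F →+* k) (fr : k →+* k) (q : ℕ) (φ : SL k →* Y) (T : Subgroup Y) (χ : Y → k) (τ : MulAut Y) :
    Prop where
  hq : Fintype.card F = q
  hfr : ∀ x, fr x = x ^ q
  hfix : ∀ x : k, x ^ q = x ↔ x ∈ Set.range f
  Tc : ∀ s ∈ T, ∀ t ∈ T, s * t = t * s
  χ0 : ∀ s ∈ T, χ s ≠ 0
  χU : ∀ s ∈ T, ∀ u, s * φ (U u) * s⁻¹ = φ (U (χ s * u))
  χV : ∀ s ∈ T, ∀ u, s * φ (V u) * s⁻¹ = φ (V ((χ s)⁻¹ * u))
  inj : Function.Injective φ
  HT : ∀ c (hc : c ≠ 0), φ (H c hc) ∈ T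
  τφ : ∀ A, τ (φ A) = φ (SpecialLinearGroup.map fr A)
  τT : ∀ s, s ∈ T → τ s ∈ T
  surj : ∀ a : F, a ≠ 0 → ∃ s ∈ T, τ s = s ∧ χ s = f a

/-- conjugation as a homomorphism -/
def cjh (φ : SL k →* Y) (g : Y) : SL k →* Y := (MulAut.conj g).toMonoidHom.comp φ

theorem cjh_apply (g : Y) (A : SL k) : cjh φ g A = g * φ A * g⁻¹ := rfl

namespace Fram

variable (X : Fram f fr q φ T χ τ)

include X

theorem two_le : 2 ≤ q := by rw [← X.hq]; exact Fintype.one_lt_card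

/-- the torus acts on the image of `φ` as a diagonal matrix -/
theorem act {s : Y} (hs : s ∈ T) {d : k} (hd : d ≠ 0) (e : d ^ 2 = χ s) (A : SL k) :
    s * φ A * s⁻¹ = φ (H d hd) * φ A * (φ (H d hd))⁻¹ := by
  have h : cjh φ s = cjh φ (φ (H d hd)) := by
    apply hom_ext
    · intro u
      rw [cjh_apply, cjh_apply, X.χU s hs, ← map_inv, ← map_mul, ← map_mul, H_conj_U, e]
    · intro u
      rw [cjh_apply, cjh_apply, X.χV s hs, ← map_inv, ← map_mul, ← map_mul, H_conj_V, e]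
  exact DFunLike.congr_fun h A

theorem exists_sqrt {s : Y} (hs : s ∈ T) : ∃ (d : k) (_ : d ≠ 0), d ^ 2 = χ s := by
  obtain ⟨d, hd⟩ := IsAlgClosed.exists_pow_nat_eq (χ s) (n := 2) (by norm_num)
  refine ⟨d, ?_, hd⟩
  rintro rfl
  rw [zero_pow (by norm_num)] at hd
  exact X.χ0 s hs hd.symm

theorem conj_mem {s : Y} (hs : s ∈ T) (A : SL k) : ∃ B, s * φ A * s⁻¹ = φ B := by
  obtain ⟨d, hd, e⟩ := X.exists_sqrt hs
  exact ⟨_, by rw [X.act hs hd e, ← map_inv, ← map_mul, ← map_mul]⟩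

theorem commute_of_one {s : Y} (hs : s ∈ T) (h1 : χ s = 1) (A : SL k) : s * φ A = φ A * s := by
  have h := X.act hs (d := 1) one_ne_zero (by rw [one_pow, h1]) A
  have e : H (1 : k) one_ne_zero = 1 := by
    refine ext2 ?_
    rw [coe_H, mm_one]
    ext i j
    fin_cases i <;> fin_cases j <;> simp
  rw [e, map_one, one_mul, inv_one, mul_one] at h
  exact mul_inv_eq_iff_eq_mul.1 h

theorem χH {c : k} (hc : c ≠ 0) : χ (φ (H c hc)) = c ^ 2 := by
  have h := X.χU _ (X.HT c hc) 1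
  rw [← map_inv, ← map_mul, ← map_mul, H_conj_U, mul_one, mul_one] at h
  exact (U_inj (X.inj h)).symm

theorem diag_of_mem {A : SL k} (h : φ A ∈ T) : ∃ (a : k) (ha : a ≠ 0), A = H a ha := by
  have : Infinite k := IsAlgClosed.instInfinite
  obtain ⟨c, hc, hc2⟩ := exists_sq_ne (k := k)
  refine diag_of_comm hc hc2 (X.inj ?_)
  rw [map_mul, map_mul]
  exact X.Tc _ h _ (X.HT c hc)

theorem χτ {s : Y} (hs : s ∈ T) : χ (τ s) = χ s ^ q := by
  have h1 := congrArg τ (X.χU s hs 1)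
  rw [map_mul, map_mul, map_inv, X.τφ, X.τφ, map_U, map_U, map_one, X.χU _ (X.τT s hs)] at h1
  have h2 := U_inj (X.inj h1)
  rw [mul_one, mul_one, X.hfr] at h2
  exact h2

theorem χmul {s t : Y} (hs : s ∈ T) (ht : t ∈ T) : χ (s * t) = χ s * χ t := by
  have h1 := X.χU _ (mul_mem hs ht) 1
  have h2 : s * t * φ (U 1) * (s * t)⁻¹ = s * (t * φ (U 1) * t⁻¹) * s⁻¹ := by group
  rw [h2, X.χU t ht, X.χU s hs] at h1
  have h3 := U_inj (X.inj h1)
  rw [mul_one, mul_one] at h3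
  exact h3.symm

/-- the centraliser of the image of `φ` in the image -/
theorem center_of {A : SL k} (h : ∀ B, φ A * φ B = φ B * φ A) : ∃ (a : k) (ha : a ≠ 0), A = H a ha ∧ a ^ 2 = 1 := by
  have : Infinite k := IsAlgClosed.instInfinite
  obtain ⟨c, hc, hc2⟩ := exists_sq_ne (k := k)
  obtain ⟨a, ha, rfl⟩ := diag_of_comm hc hc2 (A := A) (X.inj (by rw [map_mul, map_mul]; exact h _))
  refine ⟨a, ha, rfl, ?_⟩
  have h1 : H a ha * U 1 * (H a ha)⁻¹ = U 1 := by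
    apply X.inj
    rw [map_mul, map_mul, h, map_inv]
    group
  rw [H_conj_U, mul_one] at h1
  exact U_inj h1

theorem fix_of {A : SL k} (h : τ (φ A) = φ A) : SpecialLinearGroup.map fr A = A := by
  rw [X.τφ] at h
  exact X.inj h

/-- **The form of the fixed elements of `φ(SL₂) T`.** -/
theorem split {A : SL k} {s : Y} (hs : s ∈ T) (h : τ (φ A * s) = φ A * s) :
    ∃ (A' : SL k) (s' : Y), s' ∈ T ∧ SpecialLinearGroup.map fr A' = A' ∧ τ s' = s' ∧ φ A * s = φ A' * s' := by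
  have h1 : φ (A⁻¹ * SpecialLinearGroup.map fr A) = s * (τ s)⁻¹ := by
    rw [map_mul, X.τφ] at h
    rw [map_mul, map_inv]
    have h2 : φ (SpecialLinearGroup.map fr A) = φ A * s * (τ s)⁻¹ := by rw [← h]; group
    rw [h2]; group
  obtain ⟨b, hb, hB⟩ := X.diag_of_mem (by rw [h1]; exact mul_mem hs (inv_mem (X.τT s hs)))
  obtain ⟨c, hc, -, hfx⟩ := exists_lang X.hfr X.two_le hb hB
  refine ⟨_, φ (H c hc) * s, mul_mem (X.HT c hc) hs, hfx, ?_, ?_⟩
  · have h3 : φ (H c hc) * s = (φ (A * (H c hc)⁻¹))⁻¹ * (φ A * s) := by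
      rw [map_mul, map_inv]; group
    rw [h3, map_mul, map_inv, X.τφ, hfx, h]
  · rw [map_mul, map_inv]; group

/-- **The action of a fixed element.** -/
theorem action {ν g : Y} {A : SL k} (hν : τ ν = ν) (e : ν = φ A * g) {c c' : k} (hc : c ≠ 0)
    (hgU : ∀ u, g * φ (U u) * g⁻¹ = φ (U (c * u))) (hgV : ∀ u, g * φ (V u) * g⁻¹ = φ (V (c' * u))) :
    ∃ (A' : SL k) (s' : Y), s' ∈ T ∧ SpecialLinearGroup.map fr A' = A' ∧ τ s' = s' ∧
      ∀ B, ν * φ B * ν⁻¹ = (φ A' * s') * φ B * (φ A' * s')⁻¹ := by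
  have : Infinite k := IsAlgClosed.instInfinite
  -- the action of `g` on the opposite root group
  have hφ : ∀ s t : k, φ (U s) = φ (V t) → s = 0 ∧ t = 0 := by
    intro s t h
    have h1 := X.inj h
    have h2 : mm (U s) 0 1 = mm (V t) 0 1 := by rw [h1]
    have h3 : mm (U s) 1 0 = mm (V t) 1 0 := by rw [h1]
    exact ⟨h2, h3.symm⟩
  have hcc : c' = c⁻¹ := by
    have h1 := key φ hφ (MulAut.conj g) (f := fun u => c * u) (f' := fun u => c' * u) (fun s => hgU s)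
      (fun s => hgV s) (s := -1) (neg_ne_zero.2 one_ne_zero)
    rw [inv_neg, inv_one, _root_.neg_neg, mul_one, mul_neg, mul_one, inv_neg, _root_.neg_neg] at h1
    exact h1
  obtain ⟨d, hd⟩ := IsAlgClosed.exists_pow_nat_eq c (n := 2) (by norm_num)
  have hd0 : d ≠ 0 := by
    rintro rfl
    rw [zero_pow (by norm_num)] at hd
    exact hc hd.symm
  have hg : ∀ B, g * φ B * g⁻¹ = φ (H d hd0) * φ B * (φ (H d hd0))⁻¹ := by
    have h : cjh φ g = cjh φ (φ (H d hd0)) := by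
      apply hom_ext
      · intro u
        rw [cjh_apply, cjh_apply, hgU, ← map_inv, ← map_mul, ← map_mul, H_conj_U, hd]
      · intro u
        rw [cjh_apply, cjh_apply, hgV, ← map_inv, ← map_mul, ← map_mul, H_conj_V, hd, hcc]
    exact fun B => DFunLike.congr_fun h B
  -- `ν` acts as `φ A₁`
  obtain ⟨A₁, hA₁⟩ : ∃ A₁, A₁ = A * H d hd0 := ⟨_, rfl⟩
  have hν1 : ∀ B, ν * φ B * ν⁻¹ = φ A₁ * φ B * (φ A₁)⁻¹ := by
    intro B
    have h1 : ν * φ B * ν⁻¹ = φ A * (g * φ B * g⁻¹) * (φ A)⁻¹ := by rw [e]; group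
    rw [h1, hg, hA₁, map_mul]
    group
  have hfrB : ∀ B : SL k, ∃ B', SpecialLinearGroup.map fr B' = B := by
    have hsurj : Function.Surjective fr := by
      intro x
      obtain ⟨z, hz⟩ := IsAlgClosed.exists_pow_nat_eq x (n := q) (by have := X.two_le; omega)
      exact ⟨z, by rw [X.hfr, hz]⟩
    intro B
    choose B' hB' using fun i j => hsurj (mm B i j)
    have hdet : (Matrix.of B').det = 1 := by
      apply fr.injective
      rw [Matrix.det_fin_two, map_sub, map_mul, map_mul, map_one]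
      simp only [Matrix.of_apply, hB']
      exact det_eq B
    let C : SL k := ⟨Matrix.of B', hdet⟩
    refine ⟨C, ext2 ?_⟩
    ext i j
    exact hB' i j
  have hcent : ∀ B, φ (A₁⁻¹ * SpecialLinearGroup.map fr A₁) * φ B = φ B * φ (A₁⁻¹ * SpecialLinearGroup.map fr A₁) := by
    intro B
    obtain ⟨B', rfl⟩ := hfrB B
    have h1 := congrArg τ (hν1 B')
    rw [map_mul, map_mul, map_mul, map_mul, map_inv, map_inv, hν, X.τφ, X.τφ, hν1] at h1
    rw [map_mul, map_inv]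
    obtain ⟨x, hx⟩ : ∃ x, x = φ A₁ := ⟨_, rfl⟩
    obtain ⟨y, hy⟩ : ∃ y, y = φ (SpecialLinearGroup.map fr A₁) := ⟨_, rfl⟩
    obtain ⟨z, hz⟩ : ∃ z, z = φ (SpecialLinearGroup.map fr B') := ⟨_, rfl⟩
    rw [← hx, ← hy, ← hz] at h1 ⊢
    calc x⁻¹ * y * z = x⁻¹ * (y * z * y⁻¹) * y := by group
      _ = x⁻¹ * (x * z * x⁻¹) * y := by rw [h1]
      _ = z * (x⁻¹ * y) := by group
  obtain ⟨b, hb, hB, hb2⟩ := X.center_of hcent
  obtain ⟨c0, hc0, hcb, hfx⟩ := exists_lang X.hfr X.two_le hb hB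
  -- `c0 ^ 2` is fixed
  have h2 : (c0 ^ 2) ^ q = c0 ^ 2 := by
    have hq1 : q = (q - 1) + 1 := by have := X.two_le; omega
    rw [hq1, pow_succ, ← pow_mul, mul_comm 2, pow_mul, hcb, hb2, one_mul]
  obtain ⟨a, ha⟩ := (X.hfix _).1 h2
  have ha0 : a ≠ 0 := by
    rintro rfl
    rw [map_zero] at ha
    exact pow_ne_zero 2 hc0 ha.symm
  obtain ⟨s, hs, hτs, hχs⟩ := X.surj a ha0
  refine ⟨_, s, hs, hfx, hτs, fun B => ?_⟩
  have h3 := X.act hs hc0 (by rw [hχs, ha]) B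
  have h4 : φ (A₁ * (H c0 hc0)⁻¹) * s * φ B * (φ (A₁ * (H c0 hc0)⁻¹) * s)⁻¹ =
      φ (A₁ * (H c0 hc0)⁻¹) * (s * φ B * s⁻¹) * (φ (A₁ * (H c0 hc0)⁻¹))⁻¹ := by group
  rw [h4, h3, hν1, map_mul, map_inv]
  group

end Fram

end Cfsg.Agent.H448.Van.Rk
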