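import Mathlib
import Cfsg.Agent.H448.Van.RkAbs

/-!
# The configuration of rank one in a group of fixed points (helper448)
-/

set_option autoImplicit false
set_option linter.unusedSectionVars false

namespace Cfsg.Agent.H448.Van.Rk

open Matrix Subgroup
open Cfsg.Agent.H238.SL2Key Cfsg.Agent.H695.OneZero

universe u v w

variable {k : Type u} [Field k] [IsAlgClosed k] {F : Type u} [Field F] [Fintype F] {f : F →+* k} {fr : k →+* k} {q : ℕ}
  {Y : Type v} [Group Y] {φ : SL k →* Y} {T : Subgroup Y} {χ : Y → k} {τ : MulAut Y}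

theorem U_comm (s t : k) : U s * U t = U t * U s := by rw [← U_add, ← U_add, add_comm]

/-- the upper unitriangular matrices -/
def Uh (k : Type u) [Field k] : Multiplicative k →* SL k where
  toFun u := U (Multiplicative.toAdd u)
  map_one' := U_zero
  map_mul' a b := U_add _ _

/-- the diagonal matrices -/
def Hh (k : Type u) [Field k] : kˣ →* SL k where
  toFun c := H (c : k) c.ne_zero
  map_one' := by
    refine ext2 ?_
    rw [coe_H, mm_one]
    ext i j
    fin_cases i <;> fin_cases j <;> simp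
  map_mul' a b := (H_mul a.ne_zero b.ne_zero).symm

namespace Fram

variable (X : Fram f fr q φ T χ τ) {G : Type w} [Group G] [Finite G] {ψ : G →* Y} (hψ : Function.Injective ψ)
  (hrange : ∀ y, y ∈ ψ.range ↔ τ y = y)

include X hψ hrange

theorem rankOne {p e r b m : ℕ} [Fact p.Prime] (hqp : q = p ^ e) (htors : ∀ s ∈ T, s ^ p = 1 → s = 1)
    {t : Y} (ht : t ∈ T) (hτt : τ t = t) (hχt : χ t = 1) (hto : orderOf t = r ^ (b + 1)) (hr : r.Prime)
    (hG : Nat.card G = r ^ (b + 1) * m) (hm : ¬ r ∣ m) (hrq : ¬ r ∣ q * (q ^ 2 - 1))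
    (hcent : ∀ c, c * t ^ r ^ b = t ^ r ^ b * c → ∃ A, ∃ s ∈ T, c = φ A * s)
    (hnorm : ∀ (ν : Y) (j : ℕ), ν * t * ν⁻¹ = t ^ j → ∃ (A : SL k) (g : Y) (c c' : k), ν = φ A * g ∧ c ≠ 0 ∧
      (∀ u, g * φ (U u) * g⁻¹ = φ (U (c * u))) ∧ ∀ u, g * φ (V u) * g⁻¹ = φ (V (c' * u)))
    (hncj : ∀ y : G, ψ y = t ^ r ^ b → ∃ j : ℕ, ¬ r ∣ j ∧ ¬ IsConj y (y ^ j)) : RankOneAt G p r q := by
  have hfac : Fact r.Prime := ⟨hr⟩
  have hp : p.Prime := Fact.out
  have lift : ∀ {y : Y}, τ y = y → ∃ g, ψ g = y := fun {y} h => (hrange y).2 h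
  have hfixed : ∀ g, τ (ψ g) = ψ g := fun g => (hrange _).1 ⟨g, rfl⟩
  obtain ⟨tR, htR⟩ := lift hτt
  have htRo : orderOf tR = r ^ (b + 1) := by rw [← hto, ← htR, orderOf_injective ψ hψ]
  obtain ⟨y, hy⟩ : ∃ y, y = tR ^ r ^ b := ⟨_, rfl⟩
  have hψy : ψ y = t ^ r ^ b := by rw [hy, map_pow, htR]
  have hyo : orderOf y = r := by
    rw [hy, orderOf_pow' tR (pow_ne_zero _ hr.ne_zero), htRo, Nat.gcd_eq_right (pow_dvd_pow r (Nat.le_succ b)),
      pow_succ, Nat.mul_div_cancel_left _ (pow_pos hr.pos b)]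
  have hyT : t ^ r ^ b ∈ T := pow_mem ht _
  -- the subgroups
  let K : Subgroup G := φ.range.comap ψ
  let UG : Subgroup G := ((φ.comp (Uh k)).range).comap ψ
  let TK : Subgroup G := ((φ.comp (Hh k)).range).comap ψ
  let TC : Subgroup G := T.comap ψ
  have mK : ∀ g, g ∈ K ↔ ∃ A, φ A = ψ g := fun g => Iff.rfl
  have mU : ∀ g, g ∈ UG ↔ ∃ u, φ (U u) = ψ g := fun g =>
    ⟨fun ⟨u, hu⟩ => ⟨_, hu⟩, fun ⟨u, hu⟩ => ⟨Multiplicative.ofAdd u, hu⟩⟩
  have mTK : ∀ g, g ∈ TK ↔ ∃ (c : k) (hc : c ≠ 0), φ (H c hc) = ψ g := fun g =>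
    ⟨fun ⟨u, hu⟩ => ⟨_, u.ne_zero, hu⟩, fun ⟨u, hu0, hu⟩ => ⟨Units.mk0 u hu0, hu⟩⟩
  have mTC : ∀ g, g ∈ TC ↔ ψ g ∈ T := fun g => Iff.rfl
  have ht1 : ∀ A, t * φ A = φ A * t := fun A => X.commute_of_one ht hχt A
  have hcy : ∀ {c : G}, Commute c y ↔ ψ c * t ^ r ^ b = t ^ r ^ b * ψ c := by
    intro c
    rw [← hψy, ← map_mul, ← map_mul]
    exact ⟨fun h => by rw [h.eq], fun h => hψ h⟩
  -- elements of `K`
  have Kfix : ∀ {g : G} {A : SL k}, φ A = ψ g → SpecialLinearGroup.map fr A = A := by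
    intro g A h
    exact X.fix_of (by rw [h]; exact hfixed g)
  have liftA : ∀ {A : SL k}, SpecialLinearGroup.map fr A = A → ∃ g, ψ g = φ A := by
    intro A h
    exact lift (by rw [X.τφ, h])
  have hN1 : SpecialLinearGroup.map fr (N (1 : k)) = N 1 := map_N fr
  obtain ⟨n0, hn0⟩ := liftA hN1
  -- commuting with `y`
  have hTy : ∀ s ∈ T, s * t ^ r ^ b = t ^ r ^ b * s := fun s hs => X.Tc s hs _ hyT
  have hφy : ∀ A, φ A * t ^ r ^ b = t ^ r ^ b * φ A := fun A => by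
    have h : Commute (φ A) t := (ht1 A).symm
    exact (h.pow_right _).eq
  have hcent' : ∀ c : G, Commute c y → ∃ (A : SL k) (s : Y), s ∈ T ∧ SpecialLinearGroup.map fr A = A ∧ τ s = s ∧
      ψ c = φ A * s := by
    intro c hc
    obtain ⟨A, s, hs, e⟩ := hcent _ (hcy.1 hc)
    obtain ⟨A', s', h1, h2, h3, h4⟩ := X.split hs (by rw [← e]; exact hfixed c)
    exact ⟨A', s', h1, h2, h3, by rw [e, h4]⟩
  -- the orders
  have hfa : ∀ a : F, f a ^ q = f a := fun a => (X.hfix _).2 ⟨a, rfl⟩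
  have hcardU : Nat.card UG = q := by
    have h1 : Nat.card (UG.map ψ) = Nat.card UG := Nat.card_congr (UG.equivMapOfInjective ψ hψ).symm.toEquiv
    rw [← h1, ← X.hq, ← Nat.card_eq_fintype_card]
    refine (Nat.card_congr (Equiv.ofBijective (fun a : F => (⟨φ (U (f a)), ?_⟩ : ↥(UG.map ψ))) ⟨?_, ?_⟩)).symm
    · obtain ⟨g, hg⟩ := liftA (A := U (f a)) (by rw [map_U, X.hfr, hfa])
      exact ⟨g, (mU g).2 ⟨_, hg.symm⟩, hg⟩
    · intro a a' h
      exact f.injective (U_inj (X.inj (congrArg Subtype.val h)))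
    · rintro ⟨_, g, hg, rfl⟩
      obtain ⟨u, hu⟩ := (mU g).1 hg
      have h2 := Kfix hu
      rw [map_U, X.hfr] at h2
      obtain ⟨a, rfl⟩ := (X.hfix u).1 (U_inj h2)
      exact ⟨a, Subtype.ext hu⟩
  have hcardK : Nat.card K = q * (q ^ 2 - 1) := by
    have h1 : Nat.card (K.map ψ) = Nat.card K := Nat.card_congr (K.equivMapOfInjective ψ hψ).symm.toEquiv
    rw [← h1, ← X.hq, ← H356.OrthTorus.card_SL2]
    refine (Nat.card_congr (Equiv.ofBijective
      (fun A : SL F => (⟨φ (SpecialLinearGroup.map f A), ?_⟩ : ↥(K.map ψ))) ⟨?_, ?_⟩)).symm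
    · obtain ⟨g, hg⟩ := liftA (fix_map X.hfr hfa A)
      exact ⟨g, (mK g).2 ⟨_, hg.symm⟩, hg⟩
    · intro a a' h
      exact map_inj f (X.inj (congrArg Subtype.val h))
    · rintro ⟨_, g, hg, rfl⟩
      obtain ⟨A, hA⟩ := (mK g).1 hg
      obtain ⟨A', rfl⟩ := exists_map X.hfr X.hfix (Kfix hA)
      exact ⟨A', Subtype.ext hA⟩
  refine ⟨y, zpowers tR, K, UG, TK, TC, n0, ?_⟩
  exact
  { ord := hyo
    mem := by rw [hy]; exact npow_mem_zpowers tR _
    cyc := inferInstance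
    pgr := IsPGroup.of_card (n := b + 1) (by rw [Nat.card_zpowers, htRo])
    ind := by
      have h1 := (zpowers tR).index_mul_card
      rw [Nat.card_zpowers, htRo, hG, mul_comm] at h1
      rw [Nat.eq_of_mul_eq_mul_left (pow_pos hr.pos (b + 1)) h1]
      exact hm
    cent := by
      intro g hg x hx
      obtain ⟨A, s, hs, e⟩ := hcent _ (hcy.1 hg)
      have h1 : ψ g * t = t * ψ g := by
        rw [e]
        calc φ A * s * t = φ A * (s * t) := by group
          _ = φ A * (t * s) := by rw [X.Tc s hs t ht]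
          _ = (φ A * t) * s := by group
          _ = (t * φ A) * s := by rw [ht1]
          _ = _ := by group
      have h2 : Commute g tR := hψ (by rw [map_mul, map_mul, htR, h1])
      obtain ⟨n, rfl⟩ := hx
      exact h2.zpow_right n
    ncj := hncj y hψy
    KC := by
      intro g hg
      obtain ⟨A, hA⟩ := (mK g).1 hg
      rw [hcy, ← hA]
      exact hφy A
    Kr := by rw [hcardK]; exact hrq
    UK := by
      intro g hg
      obtain ⟨u, hu⟩ := (mU g).1 hg
      exact (mK g).2 ⟨_, hu⟩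
    TKK := by
      intro g hg
      obtain ⟨c, hc, h⟩ := (mTK g).1 hg
      exact (mK g).2 ⟨_, h⟩
    n0K := (mK n0).2 ⟨_, hn0.symm⟩
    NK := by
      intro n hn
      obtain ⟨j, hj⟩ : ∃ j : ℕ, n * tR * n⁻¹ = tR ^ j := by
        have h1 : n * tR * n⁻¹ ∈ zpowers tR := (mem_normalizer_iff.1 hn tR).1 (mem_zpowers tR)
        rw [← mem_powers_iff_mem_zpowers] at h1
        obtain ⟨j, hj⟩ := h1
        exact ⟨j, hj.symm⟩
      have hj' : ψ n * t * (ψ n)⁻¹ = t ^ j := by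
        rw [← htR, ← map_pow, ← hj, map_mul, map_mul, map_inv]
      obtain ⟨A, g, c, c', e, hc, hgU, hgV⟩ := hnorm _ _ hj'
      obtain ⟨A', s', hs', hfx, hτs, hact⟩ := X.action (hfixed n) e hc hgU hgV
      obtain ⟨c1, hc1⟩ := lift (y := φ A' * s') (by rw [map_mul, X.τφ, hfx, hτs])
      refine ⟨c1, ?_, fun k hk => ?_⟩
      · rw [hcy, hc1]
        calc φ A' * s' * t ^ r ^ b = φ A' * (s' * t ^ r ^ b) := by group
          _ = φ A' * (t ^ r ^ b * s') := by rw [hTy s' hs']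
          _ = (φ A' * t ^ r ^ b) * s' := by group
          _ = (t ^ r ^ b * φ A') * s' := by rw [hφy]
          _ = _ := by group
      · obtain ⟨B, hB⟩ := (mK k).1 hk
        apply hψ
        rw [map_mul, map_mul, map_mul, map_mul, map_inv, map_inv, ← hB, hact, hc1]
    CK := by
      intro c hc
      obtain ⟨A, s, hs, hA, hτs, e⟩ := hcent' c hc
      obtain ⟨k1, hk1⟩ := liftA hA
      obtain ⟨t1, ht1'⟩ := lift hτs
      exact ⟨k1, (mK _).2 ⟨_, hk1.symm⟩, t1, (mTC _).2 (by rw [ht1']; exact hs),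
        hψ (by rw [e, map_mul, hk1, ht1'])⟩
    Kn := by
      intro t' ht' k' hk'
      obtain ⟨B, hB⟩ := (mK k').1 hk'
      rw [mK, map_mul, map_mul, map_inv, ← hB]
      obtain ⟨B', hB'⟩ := X.conj_mem ((mTC t').1 ht') B
      exact ⟨B', hB'.symm⟩
    bru := by
      intro g hg
      obtain ⟨A, hA⟩ := (mK g).1 hg
      have hfx := Kfix hA
      have hent : ∀ i j, fr (mm A i j) = mm A i j := fun i j => by rw [← mm_map, hfx]
      by_cases h : mm A 1 0 = 0
      · left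
        obtain ⟨h0, e⟩ := dec_zero h
        obtain ⟨u1, hu1⟩ := liftA (A := U (mm A 0 1 * mm A 0 0)) (by rw [map_U, map_mul, hent, hent])
        obtain ⟨t1, ht1'⟩ := liftA (A := H (mm A 0 0) h0) (by rw [map_H]; congr 1; exact hent 0 0)
        refine ⟨u1, (mU _).2 ⟨_, hu1.symm⟩, t1, (mTK _).2 ⟨_, _, ht1'.symm⟩, hψ ?_⟩
        rw [map_mul, hu1, ht1', ← map_mul, ← hA]
        exact congrArg φ e
      · right
        obtain ⟨h0, e⟩ := dec_ne h
        obtain ⟨u1, hu1⟩ := liftA (A := U (mm A 0 0 / mm A 1 0)) (by rw [map_U, map_div₀, hent, hent])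
        obtain ⟨t1, ht1'⟩ := liftA (A := H (-(mm A 1 0)⁻¹) h0) (by
          rw [map_H]; congr 1; rw [map_neg, map_inv₀, hent])
        obtain ⟨v1, hv1⟩ := liftA (A := U (mm A 1 1 / mm A 1 0)) (by rw [map_U, map_div₀, hent, hent])
        refine ⟨u1, (mU _).2 ⟨_, hu1.symm⟩, t1, (mTK _).2 ⟨_, _, ht1'.symm⟩, v1, (mU _).2 ⟨_, hv1.symm⟩, hψ ?_⟩
        rw [map_mul, map_mul, map_mul, hu1, ht1', hv1, hn0, ← map_mul, ← map_mul, ← map_mul, ← hA]
        exact congrArg φ e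
    TCy := by
      intro t' ht'
      rw [hcy]
      exact hTy _ ((mTC t').1 ht')
    TCU := by
      intro t' ht' u hu
      obtain ⟨x, hx⟩ := (mU u).1 hu
      rw [mU, map_mul, map_mul, map_inv, ← hx]
      exact ⟨_, (X.χU _ ((mTC t').1 ht') x).symm⟩
    TCT := by
      intro t' ht' s hs
      obtain ⟨c, hc, h⟩ := (mTK s).1 hs
      refine hψ ?_
      rw [map_mul, map_mul]
      exact X.Tc _ ((mTC t').1 ht') _ (by rw [← h]; exact X.HT c hc)
    TKC := by
      intro s hs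
      obtain ⟨c, hc, h⟩ := (mTK s).1 hs
      rw [mTC, ← h]
      exact X.HT c hc
    disj := by
      intro u hu v hv t' ht' h
      obtain ⟨x, hx⟩ := (mU u).1 hu
      obtain ⟨z, hz⟩ := (mU v).1 hv
      obtain ⟨c, hc, hcs⟩ := (mTK t').1 ht'
      have h1 := congrArg ψ h
      rw [map_mul, map_mul, map_mul, map_inv, ← hx, ← hz, ← hcs, hn0, ← map_inv, ← map_mul, ← map_mul, ← map_mul,
        N_one_conj] at h1
      have h2 := congrArg (fun A => mm A 1 0) (X.inj h1)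
      simp only [mm_mul, coe_V, coe_U, coe_H] at h2
      simp [Matrix.mul_apply, Fin.sum_univ_two] at h2
      apply hψ
      rw [← hx, h2, U_zero, map_one, map_one]
    n0T := by
      intro s hs
      obtain ⟨c, hc, h⟩ := (mTK s).1 hs
      rw [mTK, map_mul, map_mul, map_inv, ← h, hn0, ← map_inv, ← map_mul, ← map_mul, N_one_conj_H]
      exact ⟨_, _, rfl⟩
    cardU := hcardU
    pU := IsPGroup.of_card (n := e) (by rw [hcardU, hqp])
    TCp := by
      intro hpd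
      obtain ⟨⟨g, hg⟩, hgo⟩ := exists_prime_orderOf_dvd_card' p hpd
      rw [Subgroup.orderOf_mk] at hgo
      have h1 : ψ g = 1 := htors _ ((mTC g).1 hg) (by rw [← map_pow, ← hgo, pow_orderOf_eq_one, map_one])
      have h2 : g = 1 := hψ (by rw [h1, map_one])
      rw [h2, orderOf_one] at hgo
      exact hp.one_lt.ne hgo }

end Fram

end Cfsg.Agent.H448.Van.Rk
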