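import Mathlib
import Cfsg.Agent.H129.TorFin
import Cfsg.Agent.H129.UntwTwo
import Cfsg.Agent.H238.ExcCore
import Cfsg.Agent.H405.UE.GD
import Cfsg.Agent.H448.FprExc.NC
import Cfsg.Agent.H448.Van.RkMain

/-!
# The frame of a simple root in `D.group k` (helper448)

* `rp_xc` : the action of the representatives of `W` on the root elements;
* `exists_phi` : the homomorphism of a simple root;
* `fram` : the frame.
-/

set_option autoImplicit false
set_option linter.unusedSectionVars false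

namespace Cfsg.Agent.H448.Van.Rk

open CoxeterSystem Subgroup Cfsg Cfsg.Lie Cfsg.Lie.ChevalleyDatum
open Cfsg.Agent.ChevalleyStructure Cfsg.Agent.ChevalleyStructure.Elts Cfsg.Agent.ChevalleyStructure.CoxeterGeom
  Cfsg.Agent.ChevalleyStructure.CoxeterGeomTypes Cfsg.Agent.ChevalleyStructure.NPerm
open Cfsg.Agent.Tits.Roots Cfsg.Agent.Tits.Core Cfsg.Agent.Nodes.Reps Cfsg.Agent.Nodes.BNOf
  Cfsg.Agent.Nodes.RGDChev Cfsg.Agent.Nodes.Bruhat Cfsg.Agent.Nodes Cfsg.Agent.Nodes.Coroot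
open Cfsg.Agent.KFacts.RgdField Cfsg.Agent.KFacts.RgdChevCoord Cfsg.Agent.BpExc Cfsg.Agent.BpExc.TorCent
  Cfsg.Agent.BpExc.TorChev Cfsg.Agent.BpExc.Tow Cfsg.Agent.BpExc.TowChev Cfsg.Agent.BpExc.Fr Cfsg.Agent.BpExc.Pair
  Cfsg.Agent.BpExc.LangFr
open Cfsg.Agent.H129.TorusChar Cfsg.Agent.H129.TorusMain Cfsg.Agent.H129.TorusUntw Cfsg.Agent.H129.TorAct
open Cfsg.Agent.H238.SL2Key

universe u v

/-! ### the representatives -/

section Rp

variable {I W Y : Type*} [Fintype I] [DecidableEq I] [Group W] [Group Y] {M : CoxeterMatrix I}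
  {cs : CoxeterSystem M W} {A : I → I → ℤ} {h : IsCartan M A} {T : Subgroup Y} {n : I → Y}
  {X : (I → ℤ) → Subgroup Y} {F : Type*} [Field F] {x : (I → ℤ) → F → Y} {χ : (I → ℤ) → Y → F}

/-- the action on the root elements -/
theorem rp_xc (C : Coords cs h T n X x χ) (hN : NSys M T n) {w : W} {g : Y} (hg : Rp cs hN w g)
    {r : I → ℤ} (hr : IsRoot cs h r) : ∃ c, c ≠ 0 ∧ ∀ a, g * x r a * g⁻¹ = x (rep cs h w r) (c * a) := by
  obtain ⟨ω, rfl⟩ := cs.wordProd_surjective w
  induction ω generalizing g with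
  | nil =>
    rw [wordProd_nil] at hg ⊢
    rw [map_one, Module.End.one_apply]
    exact ⟨_, (C.coord r hr).chi_ne_zero hg.mem_of_one, (C.coord r hr).act _ hg.mem_of_one⟩
  | cons i ω ih =>
    rw [wordProd_cons] at hg ⊢
    have h1 : Rp cs hN (cs.wordProd ω) ((n i)⁻¹ * g) := by
      have := (rp_simple cs hN i).inv.mul hg
      rwa [inv_mul_cancel_left] at this
    obtain ⟨c, hc, h2⟩ := ih h1
    obtain ⟨c', hc', h3⟩ := C.nact i _ (hr.act (cs.wordProd ω))
    refine ⟨c' * c, mul_ne_zero hc' hc, fun a => ?_⟩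
    have e : g * x r a * g⁻¹ = n i * ((n i)⁻¹ * g * x r a * ((n i)⁻¹ * g)⁻¹) * (n i)⁻¹ := by group
    rw [e, h2, h3, rep_mul_apply, mul_assoc]

/-- a word acts trivially on the coordinates outside -/
theorem rep_word_coord {j : I} {L : List I} (hL : ∀ i ∈ L, i ≠ j) (y : I → ℤ) :
    rep cs h (cs.wordProd L) y j = y j := by
  induction L with
  | nil => rw [wordProd_nil, map_one, Module.End.one_apply]
  | cons i L ih =>
    have h1 := ih fun i hi => hL i (List.mem_cons_of_mem _ hi)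
    rw [wordProd_cons, rep_mul_apply, rep_simple_eq, Pi.sub_apply, Pi.smul_apply,
      sr_ne (Ne.symm (hL i List.mem_cons_self)), smul_zero, sub_zero, h1]

/-- a word of simple reflections orthogonal to `α_j` fixes `α_j` -/
theorem rep_word_sr {j : I} {L : List I} (hL : ∀ i ∈ L, A i j = 0) :
    rep cs h (cs.wordProd L) (sr j) = sr j := by
  induction L with
  | nil => rw [wordProd_nil, map_one, Module.End.one_apply]
  | cons i L ih =>
    rw [wordProd_cons, rep_mul_apply, ih fun i hi => hL i (List.mem_cons_of_mem _ hi), rep_simple_eq]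
    have : pairing A i (sr j) = A i j := by
      unfold pairing
      rw [Finset.sum_eq_single j]
      · rw [sr_self, mul_one]
      · intro m _ hm; rw [sr_ne hm, mul_zero]
      · intro hj; exact absurd (Finset.mem_univ j) hj
    rw [this, hL i List.mem_cons_self, zero_smul, sub_zero]

theorem rp_word (hN : NSys M T n) (L : List I) : Rp cs hN (cs.wordProd L) (L.map n).prod := by
  induction L with
  | nil => rw [wordProd_nil]; exact rp_one
  | cons i L ih =>
    rw [wordProd_cons, List.map_cons, List.prod_cons]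
    exact (rp_simple cs hN i).mul ih

end Rp

/-! ### the homomorphism of a simple root -/

variable {D : ChevalleyDatum} {l : ℕ} {M : CoxeterMatrix (Fin l)} (hp : IsType D l M) {k : Type u} [Field k]
  {W : Type*} [Group W] (cs : CoxeterSystem M W)

variable (k) in
theorem exists_phi (j : Fin l) : ∃ φ : SL k →* ↥(D.group k), (∀ u, φ (U u) = xc hp (sr j) u) ∧
    (∀ u, φ (V u) = xc hp (-sr j) u) ∧ (∀ c (h0 : c ≠ 0), φ (H c h0) = hc hp j c) ∧ φ (N 1) = nc hp k j := by
  obtain ⟨φ, h1, h2, h3⟩ := H405.UE.exists_sl2 hp k (r := D.simple j) (NPerm.simple_lt hp.inList (lt_rank hp j))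
  have hU : ∀ u, φ (U u) = xc hp (sr j) u := fun u => by rw [H405.UE.zz_simple, ← h1]; rfl
  have hV : ∀ u, φ (V u) = xc hp (-sr j) u := fun u => by rw [H405.UE.zz_neg_simple, ← h2]; rfl
  refine ⟨φ, hU, hV, fun c h0 => ?_, ?_⟩
  · have h4 := h3 (Units.mk0 c h0)
    rw [Units.val_mk0] at h4
    rw [H405.UE.hc_eq_hrt, ← h4]
    rfl
  · unfold N
    rw [map_mul, map_mul, hU, hV, H405.UE.zz_simple, H405.UE.zz_neg_simple]
    apply Subtype.ext
    show xG hp.inList (D.simple j) 1 * xG hp.inList (D.neg (D.simple j)) (-1⁻¹) * xG hp.inList (D.simple j) 1 =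
      nG hp.inList (D.simple j) 1
    rw [nG_def]
    group

section Phi

variable {j : Fin l} {φ : SL k →* ↥(D.group k)} (hU : ∀ u, φ (U u) = xc hp (sr j) u)
  (hV : ∀ u, φ (V u) = xc hp (-sr j) u) (hH : ∀ c (h0 : c ≠ 0), φ (H c h0) = hc hp j c)
  (hN1 : φ (N 1) = nc hp k j)

include hU hV cs

theorem phi_mem_sup (A : SL k) : φ A ∈ XX D l k (sr j) ⊔ XX D l k (-sr j) := by
  have hu : ∀ u, φ (U u) ∈ XX D l k (sr j) ⊔ XX D l k (-sr j) := fun u => by
    rw [hU]
    refine mem_sup_left ((H238.ExcCore.mem_XX_iff hp cs (isRoot_sr cs hp.isCartan j)).2 ⟨u, rfl⟩)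
  have hv : ∀ u, φ (V u) ∈ XX D l k (sr j) ⊔ XX D l k (-sr j) := fun u => by
    rw [hV]
    refine mem_sup_right ((H238.ExcCore.mem_XX_iff hp cs (isRoot_sr cs hp.isCartan j).neg).2 ⟨u, rfl⟩)
  have hn : ∀ u, φ (N u) ∈ XX D l k (sr j) ⊔ XX D l k (-sr j) := fun u => by
    unfold N
    rw [map_mul, map_mul]
    exact mul_mem (mul_mem (hu _) (hv _)) (hu _)
  have hh : ∀ u h0, φ (H u h0) ∈ XX D l k (sr j) ⊔ XX D l k (-sr j) := fun u h0 => by
    rw [H_eq h0, map_mul, map_inv]
    exact mul_mem (hn _) (inv_mem (hn _))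
  by_cases h : mm A 1 0 = 0
  · obtain ⟨h0, e⟩ := dec_zero h
    rw [e, map_mul]
    exact mul_mem (hu _) (hh _ _)
  · obtain ⟨h0, e⟩ := dec_ne h
    rw [e, map_mul, map_mul, map_mul]
    exact mul_mem (mul_mem (mul_mem (hu _) (hh _ _)) (hn _)) (hu _)

theorem sup_le_range : XX D l k (sr j) ⊔ XX D l k (-sr j) ≤ φ.range := by
  refine sup_le (fun y hy => ?_) (fun y hy => ?_)
  · obtain ⟨u, rfl⟩ := (H238.ExcCore.mem_XX_iff hp cs (isRoot_sr cs hp.isCartan j)).1 hy
    exact ⟨U u, hU u⟩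
  · obtain ⟨u, rfl⟩ := (H238.ExcCore.mem_XX_iff hp cs (isRoot_sr cs hp.isCartan j).neg).1 hy
    exact ⟨V u, hV u⟩

include hH in
theorem phi_inj [Infinite k] (hk : LocFin k) (p : ℕ) [Fact p.Prime] [CharP k p] {i : Fin l}
    (hi : pairing (cartanOf D l) j (sr i) = -1) : Function.Injective φ := by
  have hφ : ∀ s t : k, φ (U s) = φ (V t) → s = 0 ∧ t = 0 := fun s t h =>
    H238.ExcCore.inter hp cs hk p (isRoot_sr cs hp.isCartan j) (sr_nonneg j) (by rw [← hU, ← hV, h])
  rw [injective_iff_map_eq_one]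
  intro A hA
  have h1 : mm A 0 1 = 0 := upper_eq_zero φ hφ hA
  have h2 : mm A 1 0 = 0 := by
    have h3 : φ ((N 1)⁻¹ * A * N 1) = 1 := by
      rw [map_mul, map_mul, hA, mul_one, ← map_mul, inv_mul_cancel, map_one]
    have h4 := upper_eq_zero φ hφ h3
    have h5 : N 1 * ((N 1)⁻¹ * A * N 1) = A * N 1 := by group
    have h6 : mm (N 1 * ((N 1)⁻¹ * A * N 1)) 1 1 = mm (A * N (1 : k)) 1 1 := by rw [h5]
    rw [mm_mul, mm_mul A, coe_N one_ne_zero] at h6
    simp [Matrix.mul_apply, Fin.sum_univ_two] at h6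
    rw [h4] at h6
    simpa using h6.symm
  obtain ⟨h0, e⟩ := dec_zero h2
  rw [h1, zero_mul, U_zero, one_mul] at e
  rw [e, hH] at hA
  have h3 := H405.UE.cX_hc hp (k := k) j (Units.mk0 _ h0) (sr i)
  rw [Units.val_mk0, hA, cX_one, hi, zpow_neg_one, Units.val_inv_eq_inv_val, Units.val_mk0] at h3
  have h4 : mm A 0 0 = 1 := by rw [← inv_inv (mm A 0 0), ← h3, inv_one]
  rw [e]
  refine ext2 ?_
  rw [coe_H, mm_one, h4]
  ext a b
  fin_cases a <;> fin_cases b <;> simp

end Phi

theorem le_cent {Y : Type*} [Group Y] {A B C E : Subgroup Y} (h1 : ∀ x ∈ A, ∀ y ∈ C, Commute x y)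
    (h2 : ∀ x ∈ A, ∀ y ∈ E, Commute x y) (h3 : ∀ x ∈ B, ∀ y ∈ C, Commute x y) (h4 : ∀ x ∈ B, ∀ y ∈ E, Commute x y)
    {x y : Y} (hx : x ∈ A ⊔ B) (hy : y ∈ C ⊔ E) : Commute x y := by
  have key : ∀ {P : Subgroup Y}, (∀ x ∈ P, ∀ y ∈ C, Commute x y) → (∀ x ∈ P, ∀ y ∈ E, Commute x y) →
      P ≤ Subgroup.centralizer ((C ⊔ E : Subgroup Y) : Set Y) := by
    intro P hc1 hc2
    rw [Subgroup.le_centralizer_iff]
    refine sup_le ?_ ?_
    · intro y hy
      rw [Subgroup.mem_centralizer_iff]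
      intro x hx
      exact (hc1 x hx y hy).eq
    · intro y hy
      rw [Subgroup.mem_centralizer_iff]
      intro x hx
      exact (hc2 x hx y hy).eq
  have h5 := Subgroup.mem_centralizer_iff.1 (sup_le (key h1 h2) (key h3 h4) hx) y hy
  exact h5.symm

include cs in
theorem nc_commute {i j : Fin l} (hij : i ≠ j)
    (hns : ∀ m n : ℕ, 0 < m → 0 < n → ¬ IsRoot cs hp.isCartan (m • sr j + n • sr i)) {φ : SL k →* ↥(D.group k)}
    (hU : ∀ u, φ (U u) = xc hp (sr j) u) (hV : ∀ u, φ (V u) = xc hp (-sr j) u) (A : SL k) :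
    Commute (φ A) (nc hp k i) := by
  obtain ⟨φ', hU', hV', -, hN'⟩ := exists_phi hp k i
  rw [← hN']
  have hj := isRoot_sr cs hp.isCartan j
  have hi := isRoot_sr cs hp.isCartan i
  have ne1 : (sr j : Fin l → ℤ) ≠ sr i := by
    intro h
    have h1 := congrFun h j
    rw [sr_self, sr_ne (Ne.symm hij)] at h1
    exact one_ne_zero h1
  have ne2 : (sr j : Fin l → ℤ) ≠ -sr i := by
    intro h
    have h1 := congrFun h j
    rw [sr_self, Pi.neg_apply, sr_ne (Ne.symm hij), neg_zero] at h1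
    exact one_ne_zero h1
  have hns2 : ∀ m n : ℕ, 0 < m → 0 < n → ¬ IsRoot cs hp.isCartan (m • sr j + n • (-sr i)) := by
    intro m n hm hn hr
    have ej : (m • (sr j : Fin l → ℤ) + n • (-sr i)) j = m := by
      rw [Pi.add_apply, Pi.smul_apply, Pi.smul_apply, Pi.neg_apply, sr_self, sr_ne (Ne.symm hij)]
      simp
    have ei : (m • (sr j : Fin l → ℤ) + n • (-sr i)) i = -n := by
      rw [Pi.add_apply, Pi.smul_apply, Pi.smul_apply, Pi.neg_apply, sr_self, sr_ne hij]
      simp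
    rcases hr.pos_or_neg with h | h
    · have h1 : (0 : ℤ) ≤ (m • (sr j : Fin l → ℤ) + n • (-sr i)) i := h i
      rw [ei] at h1
      omega
    · have h1 : (m • (sr j : Fin l → ℤ) + n • (-sr i)) j ≤ (0 : ℤ) := h j
      rw [ej] at h1
      omega
  have hneg : ∀ {x y : Fin l → ℤ}, (∀ m n : ℕ, 0 < m → 0 < n → ¬ IsRoot cs hp.isCartan (m • x + n • y)) →
      ∀ m n : ℕ, 0 < m → 0 < n → ¬ IsRoot cs hp.isCartan (m • (-x) + n • (-y)) := by
    intro x y h m n hm hn hr
    apply h m n hm hn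
    have e : m • x + n • y = -(m • (-x) + n • (-y)) := by
      rw [neg_add, smul_neg, smul_neg, _root_.neg_neg, _root_.neg_neg]
    rw [e]
    exact hr.neg
  have hns3 := hneg hns
  have hns4 := hneg hns2
  rw [_root_.neg_neg] at hns4
  refine le_cent ?_ ?_ ?_ ?_ (phi_mem_sup hp cs hU hV A) (phi_mem_sup hp cs hU' hV' (N 1))
  · exact fun x hx y hy => H238.ExcCore.commute_of_sum hp cs hj hi ne1 ne2 hns hx hy
  · exact fun x hx y hy => H238.ExcCore.commute_of_sum hp cs hj hi.neg ne2 (by rwa [_root_.neg_neg]) hns2 hx hy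
  · exact fun x hx y hy => H238.ExcCore.commute_of_sum hp cs hj.neg hi (fun h => ne2 (by rw [← h, _root_.neg_neg]))
      (fun h => ne1 (neg_injective h)) hns4 hx hy
  · exact fun x hx y hy => H238.ExcCore.commute_of_sum hp cs hj.neg hi.neg (fun h => ne1 (neg_injective h))
      (fun h => ne2 (by rw [← _root_.neg_neg (sr j : Fin l → ℤ), h, _root_.neg_neg])) hns3 hx hy

section Frame

variable [IsAlgClosed k] (hk : LocFin k) {p e : ℕ} [Fact p.Prime] [CharP k p] {F : Type u} [Field F] [Fintype F]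
  {f : F →+* k} (hq : Fintype.card F = p ^ e)
  {j : Fin l} {φ : SL k →* ↥(D.group k)} (hU : ∀ u, φ (U u) = xc hp (sr j) u)
  (hV : ∀ u, φ (V u) = xc hp (-sr j) u) (hH : ∀ c (h0 : c ≠ 0), φ (H c h0) = hc hp j c)

include cs in
theorem ch_neg_sr {s : ↥(D.group k)} (hs : s ∈ TT D k) :
    ∀ a, s * xc hp (-sr j) a * s⁻¹ = xc hp (-sr j) ((ch hp (sr j) s)⁻¹ * a) := by
  intro a
  have hn := (isRoot_sr cs hp.isCartan j).neg
  have h1 : ch hp (-sr j) s = (ch hp (sr j) s)⁻¹ := by
    rw [← cX_root hp cs hs hn, (isMC_cX hp hs).neg, cX_sr]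
  obtain ⟨r, hr, er⟩ := (isRoot_iff hp cs _).1 hn
  rw [← h1, ← er]
  exact (act hp hr hs).2 a

theorem phi_xc' (v : Fin l → ℤ) (a : k) :
    phi D k p e (xc hp v a) = xc hp v (a ^ p ^ e) := by
  rw [phi_eq hp, emb_xc, iterateFrobenius_def]

include hk hq hU hV hH in
/-- **The frame.** -/
theorem fram {i0 : Fin l} (hi0 : pairing (cartanOf D l) j (sr i0) = -1) {B' : Fin l → Fin l → ℤ}
    (hB : InvC D l 1 B') {L : List (Fin l)} (hL : ∀ i ∈ L, i ≠ j)
    (hns : ∀ i ∈ L, ∀ m n : ℕ, 0 < m → 0 < n → ¬ IsRoot cs hp.isCartan (m • sr j + n • sr i)) :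
    Fram f (iterateFrobenius k p e) (p ^ e) φ (TT D k) (ch hp (sr j))
      (MulAut.conj (L.map (nc hp k)).prod * phi D k p e) := by
  have hinf : Infinite k := IsAlgClosed.instInfinite
  have hN : NSys M (TT D k) (nc hp k) := nsys_of_locFin hp cs hk p
  have hfix : ∀ x : k, x ^ p ^ e = x ↔ x ∈ Set.range f := fun x => by
    rw [← frob_fix_iff f hq, iterateFrobenius_def]
  have hcomm : ∀ A, Commute (φ A) (L.map (nc hp k)).prod := by
    intro A
    have : ∀ L' : List (Fin l), (∀ i ∈ L', i ∈ L) → Commute (φ A) (L'.map (nc hp k)).prod := by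
      intro L'
      induction L' with
      | nil => intro _; exact Commute.one_right _
      | cons i L' ih =>
        intro h
        rw [List.map_cons, List.prod_cons]
        have hi := h i List.mem_cons_self
        exact (nc_commute hp cs (hL i hi) (hns i hi) hU hV A).mul_right
          (ih fun i' hi' => h i' (List.mem_cons_of_mem _ hi'))
    exact this L fun _ h => h
  have hrp := rp_word (cs := cs) hN L
  exact
  { hq := hq
    hfr := fun x => by rw [iterateFrobenius_def]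
    hfix := hfix
    Tc := fun s hs t ht => H405.UE.TT_comm hp hs ht
    χ0 := fun s hs => (ch_sr_act hp hs j).1
    χU := fun s hs u => by rw [hU, hU, (ch_sr_act hp hs j).2]
    χV := fun s hs u => by rw [hV, hV, ch_neg_sr hp cs hs]
    inj := phi_inj hp cs hU hV hH hk p hi0
    HT := fun c h0 => by rw [hH]; exact hc_mem hp j h0
    τφ := by
      intro A
      have h : ((MulAut.conj (L.map (nc hp k)).prod * phi D k p e : MulAut ↥(D.group k)).toMonoidHom.comp φ) =
          φ.comp (Matrix.SpecialLinearGroup.map (iterateFrobenius k p e)) := by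
        apply hom_ext
        · intro s
          show (L.map (nc hp k)).prod * phi D k p e (φ (U s)) * ((L.map (nc hp k)).prod)⁻¹ =
            φ (Matrix.SpecialLinearGroup.map (iterateFrobenius k p e) (U s))
          rw [map_U, hU, phi_xc' hp, ← hU, ← (hcomm _).eq, mul_inv_cancel_right,
            iterateFrobenius_def]
        · intro s
          show (L.map (nc hp k)).prod * phi D k p e (φ (V s)) * ((L.map (nc hp k)).prod)⁻¹ =
            φ (Matrix.SpecialLinearGroup.map (iterateFrobenius k p e) (V s))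
          rw [map_V, hV, phi_xc' hp, ← hV, ← (hcomm _).eq, mul_inv_cancel_right,
            iterateFrobenius_def]
      exact DFunLike.congr_fun h A
    τT := fun s hs => tau_mem hp cs (fr_phi hp cs) hrp hs
    surj := by
      intro a ha
      have hfa : f a ≠ 0 := (map_ne_zero f).2 ha
      have hmc : IsMC (fun x : Fin l → ℤ => f a ^ x j) := ⟨by simp, fun x y => by
        rw [Pi.add_apply, zpow_add₀ hfa]⟩
      obtain ⟨s, hs, hcs⟩ := exists_cX hp hB one_ne_zero hmc (fun i => ⟨_, pow_one _⟩)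
      refine ⟨s, hs, ?_, ?_⟩
      · show (L.map (nc hp k)).prod * phi D k p e s * ((L.map (nc hp k)).prod)⁻¹ = s
        rw [tau_iff hp cs hk isFrob_phi (fr_phi hp cs) hrp hs]
        intro x
        rw [hcs, hcs, theta_apply, AddEquiv.refl_apply, rep_word_coord hL]
        have h1 : f a ^ p ^ e = f a := (hfix _).2 ⟨a, rfl⟩
        rw [← zpow_natCast, ← zpow_mul, mul_comm, zpow_mul, zpow_natCast, h1]
      · rw [← cX_sr, hcs, sr_self, zpow_one] }

end Frame

end Cfsg.Agent.H448.Van.Rk
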