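import Mathlib
import Cfsg.Agent.H448.Van.RkChev

/-!
# The torus element of the rank one configuration (helper448)
-/

set_option autoImplicit false
set_option linter.unusedSectionVars false

namespace Cfsg.Agent.H448.Van.Rk

open CoxeterSystem Subgroup Cfsg Cfsg.Lie Cfsg.Lie.ChevalleyDatum
open Cfsg.Agent.ChevalleyStructure Cfsg.Agent.ChevalleyStructure.Elts Cfsg.Agent.ChevalleyStructure.CoxeterGeom
  Cfsg.Agent.ChevalleyStructure.CoxeterGeomTypes Cfsg.Agent.ChevalleyStructure.NPerm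
open Cfsg.Agent.Tits.Roots Cfsg.Agent.Tits.Core Cfsg.Agent.Nodes.Reps Cfsg.Agent.Nodes.BNOf
  Cfsg.Agent.Nodes.RGDChev Cfsg.Agent.Nodes.Bruhat Cfsg.Agent.Nodes Cfsg.Agent.Nodes.Coroot
open Cfsg.Agent.KFacts.RgdField Cfsg.Agent.KFacts.RgdChevCoord Cfsg.Agent.BpExc Cfsg.Agent.BpExc.TorCent
  Cfsg.Agent.BpExc.TorChev Cfsg.Agent.BpExc.Tow Cfsg.Agent.BpExc.TowChev Cfsg.Agent.BpExc.Fr Cfsg.Agent.BpExc.Pair
  Cfsg.Agent.BpExc.LangFr
open Cfsg.Agent.H129.TorusChar Cfsg.Agent.H129.TorusMain Cfsg.Agent.H129.TorusUntw Cfsg.Agent.H129.TorAct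
open Cfsg.Agent.H238.SL2Key
open Cfsg.Agent.H378.Regular (exists_form')
open Cfsg.Agent.H378.RegTw Cfsg.Agent.H378.ExcAdj Cfsg.Agent.H378.TorFin

universe u v

variable {D : ChevalleyDatum} {l : ℕ} {M : CoxeterMatrix (Fin l)} (hp : IsType D l M) {k : Type u} [Field k]
  {W : Type*} [Group W] (cs : CoxeterSystem M W)

/-! ### the element -/

/-- a torus element with the characters `u ^ G x` -/
theorem exists_t [IsAlgClosed k] {B' : Fin l → Fin l → ℤ} (hB : InvC D l 1 B') (G : (Fin l → ℤ) →+ ℤ) {u : k}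
    (hu : u ≠ 0) : ∃ t ∈ TT D k, ∀ x, cX hp t x = u ^ G x := by
  have hmc : IsMC (fun x : Fin l → ℤ => u ^ G x) := ⟨by simp, fun x y => by
    rw [map_add, zpow_add₀ hu]⟩
  exact exists_cX hp hB one_ne_zero hmc fun i => ⟨_, pow_one _⟩

include hp in
/-- torus elements of order dividing the characteristic -/
theorem tors {p : ℕ} [Fact p.Prime] [CharP k p] {s : ↥(D.group k)} (hs : s ∈ TT D k) (h : s ^ p = 1) : s = 1 := by
  refine cX_inj hp hs (one_mem _) fun i => ?_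
  rw [cX_one]
  have h1 : cX hp s (sr i) ^ p = 1 := by rw [← cX_pow hp hs, h, cX_one]
  have h2 : (cX hp s (sr i) - 1) ^ p = 0 := by rw [sub_pow_char, h1, one_pow, sub_self]
  exact sub_eq_zero.1 (pow_eq_zero_iff (Fact.out : p.Prime).ne_zero |>.1 h2)

section Elt

variable {G : (Fin l → ℤ) →+ ℤ} {u : k} {r b : ℕ} (hr : r.Prime) (hu : IsPrimitiveRoot u (r ^ (b + 1)))
  {t : ↥(D.group k)} (ht : t ∈ TT D k) (hcX : ∀ x, cX hp t x = u ^ G x)

include hr hu ht hcX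

theorem cX_pow_eq_one_iff (n : ℕ) (x : Fin l → ℤ) : cX hp (t ^ n) x = 1 ↔ ((r ^ (b + 1) : ℕ) : ℤ) ∣ n * G x := by
  rw [cX_pow hp ht, hcX, ← zpow_natCast, ← zpow_mul, hu.zpow_eq_one_iff_dvd, mul_comm]

theorem orderOf_t {a : Fin l → ℤ} (ha : ¬ (r : ℤ) ∣ G a) : orderOf t = r ^ (b + 1) := by
  have : Fact r.Prime := ⟨hr⟩
  refine orderOf_eq_prime_pow ?_ ?_
  · intro h
    have h1 : cX hp (t ^ r ^ b) a = 1 := by rw [h, cX_one]
    rw [cX_pow_eq_one_iff hp hr hu ht hcX, pow_succ, Nat.cast_mul,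
      mul_dvd_mul_iff_left (by exact_mod_cast (pow_pos hr.pos b).ne')] at h1
    exact ha h1
  · refine cX_inj hp (pow_mem ht _) (one_mem _) fun i => ?_
    rw [cX_one, cX_pow_eq_one_iff hp hr hu ht hcX]
    exact Dvd.intro _ rfl

/-- the roots with value `1` on a power of order divisible by `r` -/
theorem root_of_one {j : Fin l} (hG3 : ∀ a, IsRoot cs hp.isCartan a → a ≠ sr j → a ≠ -sr j → ¬ (r : ℤ) ∣ G a) {n : ℕ}
    (hn : ¬ r ^ (b + 1) ∣ n) {a : Fin l → ℤ} (ha : IsRoot cs hp.isCartan a) (h : cX hp (t ^ n) a = 1) :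
    a = sr j ∨ a = -sr j := by
  by_contra hcon
  push Not at hcon
  rw [cX_pow_eq_one_iff hp hr hu ht hcX] at h
  apply hn
  have hco : IsCoprime ((r ^ (b + 1) : ℕ) : ℤ) (G a) := by
    rw [Nat.cast_pow]
    exact IsCoprime.pow_left ((Nat.prime_iff_prime_int.1 hr).coprime_iff_not_dvd.2 (hG3 a ha hcon.1 hcon.2))
  exact Int.natCast_dvd_natCast.1 (hco.dvd_of_dvd_mul_right h)

end Elt

section Phi

variable {j : Fin l} {φ : SL k →* ↥(D.group k)} (hU : ∀ u, φ (U u) = xc hp (sr j) u)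
  (hV : ∀ u, φ (V u) = xc hp (-sr j) u) (hN1 : φ (N 1) = nc hp k j)

include cs hU hV in
theorem MM_le {s : ↥(D.group k)} (h : ∀ a, IsRoot cs hp.isCartan a → ch hp a s = 1 → a = sr j ∨ a = -sr j) :
    MM cs hp.isCartan (XX D l k) (ch hp) s ≤ φ.range := by
  refine RGD.Sup_le fun a ha => ?_
  rcases h a ha.1 ha.2 with rfl | rfl
  · exact le_sup_left.trans (sup_le_range hp cs hU hV)
  · exact le_sup_right.trans (sup_le_range hp cs hU hV)

include hN1 in
/-- a representative fixing the root -/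
theorem adjust {hN : NSys M (TT D k) (nc hp k)} {w : W} {g : ↥(D.group k)} (hg : Rp cs hN w g)
    (hw : rep cs hp.isCartan w (sr j) = sr j ∨ rep cs hp.isCartan w (sr j) = -sr j) :
    ∃ (B : SL k) (v : W), Rp cs hN v (φ B * g) ∧ rep cs hp.isCartan v (sr j) = sr j ∧
      (B = 1 ∧ v = w ∨ B = N 1 ∧ v = cs.simple j * w) := by
  rcases hw with hw | hw
  · exact ⟨1, w, by rw [map_one, one_mul]; exact hg, hw, Or.inl ⟨rfl, rfl⟩⟩
  · refine ⟨N 1, cs.simple j * w, ?_, ?_, Or.inr ⟨rfl, rfl⟩⟩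
    · rw [hN1]
      exact (rp_simple cs hN j).mul hg
    · rw [rep_mul_apply, hw, map_neg, rep_simple_sr, _root_.neg_neg]

end Phi

section Cent

variable [Finite W] [IsAlgClosed k] (hk : LocFin k) {j : Fin l} {φ : SL k →* ↥(D.group k)} (hU : ∀ u, φ (U u) = xc hp (sr j) u)
  (hV : ∀ u, φ (V u) = xc hp (-sr j) u) (hN1 : φ (N 1) = nc hp k j)

include cs hk hU hV hN1 in
/-- **The centraliser.** -/
theorem cent_form (p : ℕ) [Fact p.Prime] [CharP k p] {s : ↥(D.group k)} (hs : s ∈ TT D k) {r : ℕ} (hr : r.Prime)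
    (hrW : ¬ r ∣ Nat.card W) (hsr : s ^ r = 1) (hroot : ∀ a, IsRoot cs hp.isCartan a → ch hp a s = 1 → a = sr j ∨ a = -sr j)
    (h1 : ch hp (sr j) s = 1) {c : ↥(D.group k)} (hc : c * s = s * c) : ∃ A, ∃ s' ∈ TT D k, c = φ A * s' := by
  obtain ⟨m, hm, w, g, hg, hgs, hcm⟩ := exists_form' hp cs hk p hs hs hc
  obtain ⟨A, rfl⟩ := MM_le hp cs hU hV hroot hm
  have hgc : g * s * g⁻¹ = s := by rw [hgs]; group
  have hchar : ∀ x, cX hp s (rep cs hp.isCartan w x) = cX hp s x := by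
    intro x
    have h2 := cX_rp hp cs hk p hg hs x
    rwa [hgc] at h2
  have hw : rep cs hp.isCartan w (sr j) = sr j ∨ rep cs hp.isCartan w (sr j) = -sr j := by
    have hrt := (isRoot_sr cs hp.isCartan j).act w
    refine hroot _ hrt ?_
    rw [← cX_root hp cs hs hrt, hchar, cX_sr, h1]
  obtain ⟨B, v, hv, hvj, hB⟩ := adjust hp cs hN1 hg hw
  have hv' : ∀ x, cX hp s (rep cs hp.isCartan v x) = cX hp s x := by
    rcases hB with ⟨-, rfl⟩ | ⟨rfl, rfl⟩
    · exact hchar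
    · intro x
      rw [rep_mul_apply]
      have h2 := cX_rp hp cs hk p (rp_simple cs (H378.TorChar.nsysL hp cs hk p) j) hs (rep cs hp.isCartan w x)
      have h3 : nc hp k j * s * (nc hp k j)⁻¹ = s := by
        rw [← hN1]
        have h4 : ∀ u, s * φ (U u) * s⁻¹ = φ (U u) := fun u => by
          rw [hU, (ch_sr_act hp hs j).2, h1, one_mul]
        have h5 : ∀ u, s * φ (V u) * s⁻¹ = φ (V u) := fun u => by
          rw [hV, ch_neg_sr hp cs hs, h1, inv_one, one_mul]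
        have h6 : cjh φ s = φ := hom_ext h4 h5
        have h7 : s * φ (N 1) * s⁻¹ = φ (N 1) := DFunLike.congr_fun h6 (N 1)
        have h8 : s * φ (N 1) = φ (N 1) * s := mul_inv_eq_iff_eq_mul.1 h7
        rw [← h8]
        group
      rw [h3] at h2
      rw [h2, hchar]
  have hPP : v ∈ PP cs hp.isCartan (ch hp) s := by
    refine mem_PP.2 ⟨fun a ha => ?_, fun a ha h0 => ?_⟩
    · rw [← cX_root hp cs hs ha, ← cX_root hp cs hs (ha.act v)]
      exact hv' a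
    · rcases hroot a ha.1 ha.2 with rfl | rfl
      · rw [hvj]; exact h0
      · exfalso
        have h2 : (0 : ℤ) ≤ (-(sr j : Fin l → ℤ)) j := h0 j
        rw [Pi.neg_apply, sr_self] at h2
        omega
  have hPG := isPGroup_PP (h := hp.isCartan) (chAddL (k := k) hp cs hk p) hs hr (fun a ha => by
    rw [← cX_root hp cs hs ha, ← cX_pow hp hs, hsr, cX_one])
  have hv1 : v = 1 := by
    obtain ⟨n, hn⟩ := hPG ⟨v, hPP⟩
    have h2 : v ^ r ^ n = 1 := congrArg Subtype.val hn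
    have h3 : v ^ Nat.card W = 1 := pow_card_eq_one'
    have h4 : Nat.Coprime (r ^ n) (Nat.card W) := Nat.Coprime.pow_left n ((Nat.Prime.coprime_iff_not_dvd hr).2 hrW)
    have h5 := Nat.dvd_gcd (orderOf_dvd_of_pow_eq_one h2) (orderOf_dvd_of_pow_eq_one h3)
    rw [h4, Nat.dvd_one] at h5
    exact orderOf_eq_one_iff.1 h5
  rw [hv1] at hv
  refine ⟨A * B⁻¹, φ B * g, hv.mem_of_one, ?_⟩
  rw [hcm, map_mul, map_inv]
  group

include cs hk hU hV hN1 in
/-- **The normaliser.** -/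
theorem norm_form (p : ℕ) [Fact p.Prime] [CharP k p] {s s' : ↥(D.group k)} (hs : s ∈ TT D k) (hs' : s' ∈ TT D k)
    (hroot : ∀ a, IsRoot cs hp.isCartan a → ch hp a s' = 1 → a = sr j ∨ a = -sr j)
    (h1 : ch hp (sr j) s = 1) {ν : ↥(D.group k)} (hν : ν * s = s' * ν) :
    ∃ (A : SL k) (g : ↥(D.group k)) (c c' : k), ν = φ A * g ∧ c ≠ 0 ∧
      (∀ u, g * φ (U u) * g⁻¹ = φ (U (c * u))) ∧ ∀ u, g * φ (V u) * g⁻¹ = φ (V (c' * u)) := by
  obtain ⟨m, hm, w, g, hg, hgs, hcm⟩ := exists_form' hp cs hk p hs hs' hν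
  obtain ⟨A, rfl⟩ := MM_le hp cs hU hV hroot hm
  have hgc : g * s * g⁻¹ = s' := by rw [hgs]; group
  have hw : rep cs hp.isCartan w (sr j) = sr j ∨ rep cs hp.isCartan w (sr j) = -sr j := by
    have hrt := (isRoot_sr cs hp.isCartan j).act w
    refine hroot _ hrt ?_
    rw [← cX_root hp cs hs' hrt, ← hgc, cX_rp hp cs hk p hg hs, cX_sr, h1]
  obtain ⟨B, v, hv, hvj, -⟩ := adjust hp cs hN1 hg hw
  have C := coordsL hp cs hk p
  obtain ⟨c, hc, h2⟩ := rp_xc C _ hv (isRoot_sr cs hp.isCartan j)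
  obtain ⟨c', -, h3⟩ := rp_xc C _ hv (isRoot_sr cs hp.isCartan j).neg
  rw [hvj] at h2
  rw [map_neg, hvj] at h3
  refine ⟨A * B⁻¹, φ B * g, c, c', ?_, hc, fun u => ?_, fun u => ?_⟩
  · rw [hcm, map_mul, map_inv]
    group
  · rw [hU, h2, hU]
  · rw [hV, h3, hV]

include cs hk in
/-- the Weyl group element of a conjugation -/
theorem exists_weyl' (p : ℕ) [Fact p.Prime] [CharP k p] {t c : ↥(D.group k)} (ht : t ∈ TT D k) {n : ℕ}
    (h : c * t * c⁻¹ = t ^ n) : ∃ w : W, H378.TorChar.tchar hp ⟨t, ht⟩ ∈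
      H378.TorDual.KerOf k (rep cs hp.isCartan w - (n : ℤ) • (1 : Module.End ℤ (Fin l → ℤ))) := by
  obtain ⟨m', hm', w, g, hg, hgs, hc'⟩ := exists_form' hp cs hk p (s := t ^ n) (t := t) (c := c⁻¹)
    ((TT D k).pow_mem ht n) ht (by rw [← h]; group)
  refine ⟨w, fun x => ?_⟩
  have h1 := cX_rp hp cs hk p hg ((TT D k).pow_mem ht n) x
  have h2 : g * t ^ n * g⁻¹ = t := by rw [hgs]; group
  rw [h2] at h1
  have h3 : H378.TorChar.tchar hp ⟨t, ht⟩ (Multiplicative.ofAdd (rep cs hp.isCartan w x)) =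
      H378.TorChar.tchar hp ⟨t, ht⟩ (Multiplicative.ofAdd x) ^ n := by
    refine Units.ext ?_
    rw [tchar_eq_cX, h1, ← tchar_eq_cX hp ((TT D k).pow_mem ht n), Units.val_pow_eq_pow_val]
    have h4 : (⟨t ^ n, (TT D k).pow_mem ht n⟩ : ↥(TT D k)) = ⟨t, ht⟩ ^ n := rfl
    rw [h4, map_pow, MonoidHom.pow_apply, Units.val_pow_eq_pow_val]
  show H378.TorChar.tchar hp ⟨t, ht⟩
    (Multiplicative.ofAdd ((rep cs hp.isCartan w - (n : ℤ) • (1 : Module.End ℤ (Fin l → ℤ))) x)) = 1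
  rw [LinearMap.sub_apply, ofAdd_sub, map_div, h3, LinearMap.smul_apply, Module.End.one_apply, ofAdd_zsmul, map_zpow,
    zpow_natCast, div_self']

include hp cs hk in
/-- an element conjugate to all its powers -/
theorem totient_le (p : ℕ) [Fact p.Prime] [CharP k p] {t : ↥(D.group k)} (ht : t ∈ TT D k) {r : ℕ} (hr : r.Prime)
    (hl : l + 1 < r) (hto : orderOf t = r) (h : ∀ n : ℕ, ¬ r ∣ n → ∃ c, c * t * c⁻¹ = t ^ n) :
    (r - 1).totient ≤ l := by
  have : Fact r.Prime := ⟨hr⟩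
  obtain ⟨g, hg⟩ := IsCyclic.exists_generator (α := (ZMod r)ˣ)
  have hgo : orderOf g = r - 1 := by
    rw [orderOf_eq_card_of_forall_mem_zpowers hg, Nat.card_eq_fintype_card, ZMod.card_units_eq_totient,
      Nat.totient_prime hr]
  obtain ⟨n, hn⟩ : ∃ n : ℕ, (n : ZMod r) = (g : ZMod r) := ⟨(g : ZMod r).val, by rw [ZMod.natCast_val, ZMod.cast_id]⟩
  have hno : orderOf (n : ZMod r) = r - 1 := by rw [hn, ← hgo, orderOf_units]
  have hrn : ¬ r ∣ n := by
    intro h0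
    rw [← CharP.cast_eq_zero_iff (ZMod r) r, hn] at h0
    exact g.ne_zero h0
  obtain ⟨c, hc⟩ := h n hrn
  obtain ⟨w, hw⟩ := exists_weyl' hp cs hk p ht hc
  have htr : t ^ r = 1 := by rw [← hto, pow_orderOf_eq_one]
  have h1 : H378.TorChar.tchar hp ⟨t, ht⟩ ≠ 1 := by
    intro h1
    have h2 := H378.TorChar.tchar_injective hp (h1.trans (map_one (H378.TorChar.tchar hp)).symm)
    have h3 : t = 1 := congrArg Subtype.val h2
    rw [h3, orderOf_one] at hto
    exact hr.one_lt.ne hto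
  exact (H448.FprExc.exists_vec (w := rep cs hp.isCartan w) (N := Nat.card W) Nat.card_pos
    (by rw [← map_pow, pow_card_eq_one', map_one]) hr hl hno (by have := hr.two_le; omega) h1
    (H378.Regular.tchar_pow_eq_one hp ht htr) hw).1

end Cent

end Cfsg.Agent.H448.Van.Rk
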