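import Mathlib
import Cfsg.Agent.H448.Van.RkTor

/-!
# The rank one configuration in the untwisted groups (helper448)
-/

set_option autoImplicit false
set_option linter.unusedSectionVars false

namespace Cfsg.Agent.H448.Van.Rk

open CoxeterSystem Subgroup Cfsg Cfsg.Lie Cfsg.Lie.ChevalleyDatum
open Cfsg.Agent.ChevalleyStructure Cfsg.Agent.ChevalleyStructure.Elts Cfsg.Agent.ChevalleyStructure.CoxeterGeom
  Cfsg.Agent.ChevalleyStructure.CoxeterGeomTypes Cfsg.Agent.ChevalleyStructure.NPerm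
open Cfsg.Agent.Tits.Roots Cfsg.Agent.Tits.Core Cfsg.Agent.Nodes.Reps Cfsg.Agent.Nodes.BNOf
  Cfsg.Agent.Nodes.RGDChev Cfsg.Agent.Nodes.Bruhat Cfsg.Agent.Nodes Cfsg.Agent.Nodes.Coroot
open Cfsg.Agent.KFacts.RgdField Cfsg.Agent.KFacts.RgdChevCoord Cfsg.Agent.BpExc Cfsg.Agent.BpExc.TorCent
  Cfsg.Agent.BpExc.TorChev Cfsg.Agent.BpExc.Tow Cfsg.Agent.BpExc.TowChev Cfsg.Agent.BpExc.Fr Cfsg.Agent.BpExc.Pair
  Cfsg.Agent.BpExc.LangFr Cfsg.Agent.GpExc.Field
open Cfsg.Agent.H129.TorusChar Cfsg.Agent.H129.TorusMain Cfsg.Agent.H129.TorusUntw Cfsg.Agent.H129.TorAct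
open Cfsg.Agent.H238.SL2Key Cfsg.Agent.H695.OneZero

universe u v

variable {D : ChevalleyDatum} {l : ℕ} {M : CoxeterMatrix (Fin l)} (hp : IsType D l M)
  {W : Type*} [Group W] (cs : CoxeterSystem M W)

/-- the Lang conjugate of the embedding -/
noncomputable def psi {k : Type u} [Field k] {F : Type u} [Field F] (f : F →+* k) (z : ↥(D.group k)) :
    ↥(D.group F) →* ↥(D.group k) := (MulAut.conj z⁻¹).toMonoidHom.comp (emb hp.inList f)

theorem psi_apply {k : Type u} [Field k] {F : Type u} [Field F] (f : F →+* k) (z : ↥(D.group k)) (g : ↥(D.group F)) :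
    psi hp f z g = z⁻¹ * emb hp.inList f g * z := by
  show z⁻¹ * emb hp.inList f g * z⁻¹⁻¹ = _
  rw [inv_inv]

theorem psi_inj {k : Type u} [Field k] {F : Type u} [Field F] (f : F →+* k) (z : ↥(D.group k)) :
    Function.Injective (psi hp f z) := (MulAut.conj z⁻¹).injective.comp (emb_injective hp.inList f)

include cs in
theorem psi_range {k : Type u} [Field k] [IsAlgClosed k] {p e : ℕ} [Fact p.Prime] [CharP k p] {F : Type u} [Field F]
    [Fintype F] (f : F →+* k) (hq : Fintype.card F = p ^ e) {B' : Fin l → Fin l → ℤ} (hB : InvC D l 1 B')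
    {n z : ↥(D.group k)} (hz : n = z⁻¹ * phi D k p e z) (y : ↥(D.group k)) :
    y ∈ (psi hp f z).range ↔ (MulAut.conj n * phi D k p e : MulAut ↥(D.group k)) y = y := by
  have hσz : phi D k p e z = z * n := by rw [hz]; group
  show _ ↔ n * phi D k p e y * n⁻¹ = y
  constructor
  · rintro ⟨g, rfl⟩
    rw [psi_apply, map_mul, map_mul, map_inv, phi_emb hp f hq, hσz]
    group
  · intro h
    have h1 : phi D k p e (z * y * z⁻¹) = z * y * z⁻¹ := by
      rw [map_mul, map_mul, map_inv, hσz]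
      calc z * n * phi D k p e y * (z * n)⁻¹ = z * (n * phi D k p e y * n⁻¹) * z⁻¹ := by group
        _ = _ := by rw [h]
    obtain ⟨x, hx⟩ := fix_range hp cs f hq hB one_ne_zero (fun a => ⟨a, pow_one a⟩) h1
    exact ⟨x, by rw [psi_apply, hx]; group⟩

include hp in
/-- **The rank one configuration.** -/
theorem rankOneAt_chev [Finite W] {F : Type u} [Field F] [Fintype F] {p e : ℕ} (hpp : p.Prime)
    (hq : Fintype.card F = p ^ e) {B' : Fin l → Fin l → ℤ} (hB : InvC D l 1 B') {j i0 : Fin l}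
    (hi0 : pairing (cartanOf D l) j (sr i0) = -1) {L : List (Fin l)} (hL : ∀ i ∈ L, i ≠ j)
    (hns : ∀ i ∈ L, ∀ m n : ℕ, 0 < m → 0 < n → ¬ IsRoot cs hp.isCartan (m • sr j + n • sr i))
    (G : (Fin l → ℤ) →+ ℤ) {r b m : ℕ} (hr : r.Prime) (hrp : r ≠ p) (hrW : ¬ r ∣ Nat.card W) (hl : l + 1 < r)
    (htot : l < (r - 1).totient)
    (hG1 : ∀ x, ((r ^ (b + 1) : ℕ) : ℤ) ∣ G (rep cs hp.isCartan (cs.wordProd L) x) - ((p ^ e : ℕ) : ℤ) * G x)
    (hG2 : ((r ^ (b + 1) : ℕ) : ℤ) ∣ G (sr j))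
    (hG3 : ∀ a, IsRoot cs hp.isCartan a → a ≠ sr j → a ≠ -sr j → ¬ (r : ℤ) ∣ G a)
    (hcard : Nat.card ↥(D.group F) = r ^ (b + 1) * m) (hm : ¬ r ∣ m) (hrq : ¬ r ∣ p ^ e * ((p ^ e) ^ 2 - 1)) :
    RankOneAt ↥(D.group F) p r (p ^ e) := by
  obtain ⟨p', e', hpF, hpc, hpk, he, hqe, hk⟩ := exists_closure hq
  obtain rfl : p = p' := by
    have he0 : e ≠ 0 := by
      rintro rfl
      rw [pow_zero, eq_comm, Nat.pow_eq_one] at hqe
      rcases hqe with h | h
      · exact hpF.out.one_lt.ne' h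
      · omega
    have h1 : p ∣ p' ^ e' := by rw [← hqe]; exact dvd_pow_self p he0
    exact (Nat.prime_dvd_prime_iff_eq hpp hpF.out).1 (hpp.dvd_of_dvd_pow h1)
  obtain rfl : e = e' := Nat.pow_right_injective hpp.two_le hqe
  have hgfin : Finite ↥(D.group F) := by
    apply Nat.finite_of_card_ne_zero
    rw [hcard]
    refine mul_ne_zero (pow_pos hr.pos _).ne' ?_
    rintro rfl
    exact hm (dvd_zero r)
  have hN : NSys M (TT D (AlgebraicClosure F)) (nc hp (AlgebraicClosure F)) := nsys_of_locFin hp cs hk p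
  obtain ⟨φ, hU, hV, hH, hN1⟩ := exists_phi hp (AlgebraicClosure F) j
  have X := fram hp cs hk (f := algebraMap F (AlgebraicClosure F)) hq hU hV hH hi0 hB hL hns
  obtain ⟨z, hz⟩ := lang_all hp cs he isFrob_phi (fr_phi hp cs) (1 : ↥(D.group (AlgebraicClosure F)))
    (L.map (nc hp (AlgebraicClosure F))).prod
  rw [map_one, one_mul] at hz
  have hrp' := rp_word (cs := cs) hN L
  -- the root of unity
  have hr0 : (((r ^ (b + 1) : ℕ)) : AlgebraicClosure F) ≠ 0 := by
    rw [Ne, CharP.cast_eq_zero_iff (AlgebraicClosure F) p]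
    intro h
    exact hrp ((Nat.prime_dvd_prime_iff_eq hpp hr).1 (hpp.dvd_of_dvd_pow h)).symm
  have : NeZero (((r ^ (b + 1) : ℕ)) : AlgebraicClosure F) := ⟨hr0⟩
  have : NeZero (r ^ (b + 1)) := ⟨(pow_pos hr.pos _).ne'⟩
  obtain ⟨u, hu⟩ := HasEnoughRootsOfUnity.exists_primitiveRoot (AlgebraicClosure F) (r ^ (b + 1))
  have hu0 : u ≠ 0 := hu.ne_zero (pow_pos hr.pos _).ne'
  obtain ⟨t, ht, hcX⟩ := exists_t hp hB G hu0
  have hone : ∀ y : ℤ, u ^ y = 1 ↔ ((r ^ (b + 1) : ℕ) : ℤ) ∣ y := fun y => hu.zpow_eq_one_iff_dvd y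
  have hτt : (MulAut.conj (L.map (nc hp (AlgebraicClosure F))).prod * phi D (AlgebraicClosure F) p e :
      MulAut ↥(D.group (AlgebraicClosure F))) t = t := by
    refine (tau_iff hp cs hk isFrob_phi (fr_phi hp cs) hrp' ht).2 fun x => ?_
    rw [hcX, hcX, theta_apply, AddEquiv.refl_apply, ← zpow_natCast, ← zpow_mul]
    have h1 := (hone _).2 (hG1 x)
    rw [zpow_sub₀ hu0, div_eq_one_iff_eq (zpow_ne_zero _ hu0)] at h1
    rw [h1, mul_comm]
  have hji : i0 ≠ j := by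
    rintro rfl
    have h1 : pairing (cartanOf D l) i0 (sr i0) = cartanOf D l i0 i0 := by
      unfold pairing
      rw [Finset.sum_eq_single i0]
      · rw [sr_self, mul_one]
      · intro m _ hm; rw [sr_ne hm, mul_zero]
      · intro hj; exact absurd (Finset.mem_univ _) hj
    rw [h1, hp.isCartan.diag] at hi0
    omega
  have ha0 : ¬ (r : ℤ) ∣ G (sr i0) := by
    refine hG3 _ (isRoot_sr cs hp.isCartan i0) ?_ ?_
    · intro h
      have h1 := congrFun h i0
      rw [sr_self, sr_ne hji] at h1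
      exact one_ne_zero h1
    · intro h
      have h1 := congrFun h i0
      rw [sr_self, Pi.neg_apply, sr_ne hji, neg_zero] at h1
      exact one_ne_zero h1
  have hto := orderOf_t hp hr hu ht hcX ha0
  have hone' : (1 : AlgebraicClosure F) = cX hp t (sr j) := by rw [hcX, (hone _).2 hG2]
  have hχt : ch hp (sr j) t = 1 := by rw [← cX_sr, ← hone']
  have hroot : ∀ n : ℕ, ¬ r ^ (b + 1) ∣ n → ∀ a, IsRoot cs hp.isCartan a → ch hp a (t ^ n) = 1 →
      a = sr j ∨ a = -sr j := by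
    intro n hn a ha h
    rw [← cX_root hp cs (pow_mem ht n) ha] at h
    exact root_of_one hp cs hr hu ht hcX hG3 hn ha h
  have hnb : ¬ r ^ (b + 1) ∣ r ^ b := by
    intro h
    have := (Nat.pow_dvd_pow_iff_le_right hr.one_lt).1 h
    omega
  have hs0 : t ^ r ^ b ∈ TT D (AlgebraicClosure F) := pow_mem ht _
  have hs0r : (t ^ r ^ b) ^ r = 1 := by rw [← pow_mul, ← pow_succ, ← hto, pow_orderOf_eq_one]
  have hs0o : orderOf (t ^ r ^ b) = r := by
    rw [orderOf_pow' t (pow_ne_zero _ hr.ne_zero), hto, Nat.gcd_eq_right (pow_dvd_pow r (Nat.le_succ b)),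
      pow_succ, Nat.mul_div_cancel_left _ (pow_pos hr.pos b)]
  have hχs0 : ch hp (sr j) (t ^ r ^ b) = 1 := by rw [← cX_sr, cX_pow hp ht, ← hone', one_pow]
  refine X.rankOne (psi_inj hp (algebraMap F (AlgebraicClosure F)) z)
    (psi_range hp cs (algebraMap F (AlgebraicClosure F)) hq hB hz) (p := p) (e := e) (r := r) (b := b) (m := m) rfl
    (fun s hs h => tors hp hs h) ht hτt hχt hto hr hcard hm hrq ?_ ?_ ?_
  · intro c hc
    exact cent_form hp cs hk hU hV hN1 p hs0 hr hrW hs0r (hroot _ hnb) hχs0 hc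
  · intro ν n hν
    have hn : ¬ r ^ (b + 1) ∣ n := by
      rintro ⟨i, rfl⟩
      rw [← hto, pow_mul, pow_orderOf_eq_one, one_pow] at hν
      have h1 : t = 1 := by
        have : t = ν⁻¹ * (ν * t * ν⁻¹) * ν := by group
        rw [this, hν]; group
      rw [h1, orderOf_one] at hto
      exact (Nat.one_lt_pow (Nat.succ_ne_zero b) hr.one_lt).ne hto
    exact norm_form hp cs hk hU hV hN1 p ht (pow_mem ht n) (hroot _ hn) hχt (mul_inv_eq_iff_eq_mul.1 hν)
  · intro y hy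
    by_contra hcon
    push Not at hcon
    have h1 := totient_le hp cs hk p hs0 hr hl hs0o fun n hn => by
      obtain ⟨c, hc⟩ := isConj_iff.1 (hcon n hn)
      refine ⟨psi hp (algebraMap F (AlgebraicClosure F)) z c, ?_⟩
      rw [← hy, ← map_pow, ← hc, map_mul, map_mul, map_inv]
    omega

end Cfsg.Agent.H448.Van.Rk
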