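import Mathlib
import Cfsg.Agent.H448.Van.RkFin
import Cfsg.Agent.H448.Van.DataE8s
import Cfsg.Agent.H448.Van.GoodE8
import Cfsg.Agent.S1065

/-!
# The rank one configuration of `E₈(q)` for the primes `r ∣ Φ₇(q)` (helper448)
-/

set_option autoImplicit false

namespace Cfsg.Agent.H448.Van

open CoxeterSystem Subgroup Cfsg Cfsg.Lie Cfsg.Lie.ChevalleyDatum
open Cfsg.Agent.ChevalleyStructure Cfsg.Agent.ChevalleyStructure.CoxeterGeom
  Cfsg.Agent.ChevalleyStructure.CoxeterGeomTypes Cfsg.Agent.ChevalleyStructure.RootVec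
open Cfsg.Agent.Tits.Roots Cfsg.Agent.Tits.Core Cfsg.Agent.Nodes.Reps Cfsg.Agent.Nodes.BNOf
  Cfsg.Agent.Nodes.RGDChev Cfsg.Agent.Nodes
open Cfsg.Agent.H129.TorusChar Cfsg.Agent.H129.TorusMain Cfsg.Agent.H129.WData
open Cfsg.Agent.H695.OneZero
open Cfsg.Agent.BpExc.RowsUntw Cfsg.Agent.BpExc.FamInst Cfsg.Agent.H448.Van.DataE8s

universe u

/-- the functional as a homomorphism -/
def Gh (q : ℤ) : (Fin 8 → ℤ) →+ ℤ where
  toFun := Gf q
  map_zero' := by simp [Gf]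
  map_add' x y := by
    unfold Gf
    rw [← Finset.sum_add_distrib]
    exact Finset.sum_congr rfl fun i _ => by rw [Pi.add_apply, add_mul]

theorem Gh_apply (q : ℤ) (x : Fin 8 → ℤ) : Gh q x = Gf q x := rfl

/-- the functional and the Weyl group element -/
theorem Gf_theta {θ : (Fin 8 → ℤ) →+ (Fin 8 → ℤ)} (h : Lin θ Th) (q : ℤ) (x : Fin 8 → ℤ) :
    Gf q (θ x) = q * Gf q x + x 1 * (1 - q ^ 7) := by
  have h1 : Gf q (θ x) = ∑ j, x j * ∑ m, Th j m * cf q m := by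
    unfold Gf
    calc ∑ m, θ x m * cf q m = ∑ m, ∑ j, x j * (Th j m * cf q m) := by
          refine Finset.sum_congr rfl fun m _ => ?_
          rw [h.apply, Finset.sum_mul]
          exact Finset.sum_congr rfl fun j _ => by ring
      _ = ∑ j, ∑ m, x j * (Th j m * cf q m) := Finset.sum_comm
      _ = _ := Finset.sum_congr rfl fun j _ => by rw [Finset.mul_sum]
  rw [h1]
  have h2 : ∀ j, x j * ∑ m, Th j m * cf q m = q * (x j * cf q j) + if j = 1 then x j * (1 - q ^ 7) else 0 := by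
    intro j
    rw [Gf_th]
    split_ifs <;> ring
  rw [Finset.sum_congr rfl fun j _ => h2 j, Finset.sum_add_distrib, ← Finset.mul_sum, Finset.sum_ite_eq',
    if_pos (Finset.mem_univ _)]
  rfl

section Main

variable {W : Type*} [Group W] (cs : CoxeterSystem CoxeterMatrix.E₈ W)

theorem lin8 : Lin (theta e8T cs (cs.wordProd word) (AddEquiv.refl (Fin 8 → ℤ))) Th := by
  have h := lin_refl e8T cs hA chainOK
  rw [word_eq, hd_eq] at h
  exact h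

theorem sr0 : (sr 0 : Fin 8 → ℤ) = ![1, 0, 0, 0, 0, 0, 0, 0] := by
  funext i
  fin_cases i <;> simp [sr]

/-- the values of the functional on the roots -/
theorem not_dvd_Gf {q : ℤ} {r : ℕ} (hr : r.Prime) (h14 : ¬ r ∣ 14)
    (h7 : (r : ℤ) ∣ 1 + q + q ^ 2 + q ^ 3 + q ^ 4 + q ^ 5 + q ^ 6) {a : Fin 8 → ℤ} (ha : IsRoot cs e8T.isCartan a) :
    a = sr 0 ∨ a = -sr 0 ∨ ¬ (r : ℤ) ∣ Gf q a := by
  have hlin := lin8 cs
  have hT0 : theta e8T cs (cs.wordProd word) (AddEquiv.refl (Fin 8 → ℤ)) (sr 0) = sr 0 := by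
    rw [hlin 0]
    funext i
    fin_cases i <;> simp [Th, sr]
  refine root_ind e8T cs hlin rootOK (P := fun a => a = sr 0 ∨ a = -sr 0 ∨ ¬ (r : ℤ) ∣ Gf q a) (fun s => ?_)
    (fun x hx => ?_) ha
  · rcases dvd_of_G h7 s with h | h | h
    · left; rw [h, sr0]
    · right; left; rw [h, sr0]; simp
    · right; right
      intro h1
      exact h14 (by exact_mod_cast h h1)
  · rcases hx with rfl | rfl | hx
    · left; exact hT0
    · right; left; rw [map_neg, hT0]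
    · right; right
      rw [Gf_theta hlin]
      intro h1
      have h2 : (r : ℤ) ∣ x 1 * (1 - q ^ 7) := by
        have e : x 1 * (1 - q ^ 7) = (1 + q + q ^ 2 + q ^ 3 + q ^ 4 + q ^ 5 + q ^ 6) * (x 1 * (1 - q)) := by ring
        rw [e]
        exact h7.mul_right _
      have h3 : (r : ℤ) ∣ q * Gf q x := (Int.dvd_iff_dvd_of_dvd_add h1).2 h2
      rcases (Nat.prime_iff_prime_int.1 hr).dvd_or_dvd h3 with h4 | h4
      · have h5 : (r : ℤ) ∣ q * (1 + q + q ^ 2 + q ^ 3 + q ^ 4 + q ^ 5) := h4.mul_right _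
        have h6 : (r : ℤ) ∣ 1 := by
          have e : (1 : ℤ) = (1 + q + q ^ 2 + q ^ 3 + q ^ 4 + q ^ 5 + q ^ 6) - q * (1 + q + q ^ 2 + q ^ 3 + q ^ 4 + q ^ 5) := by
            ring
          rw [e]
          exact dvd_sub h7 h5
        exact hr.one_lt.ne' (Nat.dvd_one.1 (by exact_mod_cast h6))
      · exact hx h4

theorem no_root {i : Fin 8} (hi : i ∈ word) {m n : ℕ} (hm : 0 < m) (hn : 0 < n) :
    ¬ IsRoot cs e8T.isCartan (m • sr 0 + n • sr i) := by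
  intro h
  obtain ⟨r, hr, e⟩ := (isRoot_iff e8T cs _).1 h
  have hi0 : i ≠ 0 := word_ne i hi
  have hi2 : i ≠ 2 := by
    rintro rfl
    exact absurd hi (by decide)
  have hv : ∀ x : Fin 8, rt chevE8 r x = (m • (sr 0 : Fin 8 → ℤ) + n • sr i) x := fun x => by
    rw [← e]
    rfl
  have h0 : rt chevE8 r 0 = m := by
    have h1 := hv 0
    rw [Pi.add_apply, Pi.smul_apply, Pi.smul_apply, sr_self, sr_ne (Ne.symm hi0)] at h1
    simpa using h1
  have h2 : rt chevE8 r 2 = 0 := by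
    have h1 := hv 2
    rw [Pi.add_apply, Pi.smul_apply, Pi.smul_apply, sr_ne (by decide), sr_ne (Ne.symm hi2)] at h1
    simpa using h1
  have h3 := sep ⟨r, hr⟩ (by rw [h0]; exact_mod_cast hm) h2 i hi0
  have h4 := hv i
  rw [Pi.add_apply, Pi.smul_apply, Pi.smul_apply, sr_self, sr_ne hi0] at h4
  simp at h4
  simp only at h3
  rw [h4] at h3
  omega

end Main

section Arith

variable {p a r : ℕ} (hp : p.Prime) (ha : 0 < a) (hr : r.Prime) (ho : orderOf (p : ZMod r) = 7 * a)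

include hp ha hr ho

theorem dvd_iff_seven (d : ℕ) : r ∣ (p ^ a) ^ d - 1 ↔ 7 ∣ d := by
  have : Fact r.Prime := ⟨hr⟩
  have h1 : 1 ≤ (p ^ a) ^ d := Nat.one_le_pow _ _ (pow_pos hp.pos a)
  rw [← (ZMod.natCast_eq_zero_iff _ r), Nat.cast_sub h1, sub_eq_zero]
  push_cast
  rw [← pow_mul, ← orderOf_dvd_iff_pow_eq_one, ho, mul_comm 7 a]
  exact mul_dvd_mul_iff_left ha.ne'

omit hp in
theorem seven_dvd : 7 ∣ r - 1 ∧ ¬ r ∣ p := by
  have : Fact r.Prime := ⟨hr⟩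
  have h0 : (p : ZMod r) ≠ 0 := by
    intro h
    rw [h] at ho
    have h4 : orderOf (0 : ZMod r) = 0 := orderOf_eq_zero_iff'.2 fun n hn h => by
      rw [zero_pow hn.ne'] at h
      exact zero_ne_one h
    omega
  constructor
  · have h2 : orderOf (p : ZMod r) ∣ r - 1 := orderOf_dvd_of_pow_eq_one (ZMod.pow_card_sub_one_eq_one h0)
    rw [ho] at h2
    exact (Dvd.intro a rfl).trans h2
  · intro h
    exact h0 ((CharP.cast_eq_zero_iff (ZMod r) r p).2 h)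

omit hp in
theorem r_ge : 29 ≤ r := by
  obtain ⟨c, hc⟩ := (seven_dvd ha hr ho).1
  have h2 := hr.two_le
  by_contra hcon
  have h3 : c = 1 ∨ c = 2 ∨ c = 3 := by omega
  rcases h3 with rfl | rfl | rfl
  · have : r = 8 := by omega
    subst this
    exact absurd hr (by norm_num)
  · have : r = 15 := by omega
    subst this
    exact absurd hr (by norm_num)
  · have : r = 22 := by omega
    subst this
    exact absurd hr (by norm_num)

omit hp in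
theorem totient_gt : 8 < (r - 1).totient := by
  by_contra hcon
  push Not at hcon
  have h1 := r_ge ha hr ho
  have h2 := le_of_totient_eight (n := r - 1) (by omega) hcon
  obtain ⟨c, hc⟩ := (seven_dvd ha hr ho).1
  have h3 : r - 1 = 28 := by omega
  rw [h3] at hcon
  exact absurd hcon (by decide)

theorem dvd_phi : (r : ℤ) ∣ 1 + ((p ^ a : ℕ) : ℤ) + ((p ^ a : ℕ) : ℤ) ^ 2 + ((p ^ a : ℕ) : ℤ) ^ 3 + ((p ^ a : ℕ) : ℤ) ^ 4 +
    ((p ^ a : ℕ) : ℤ) ^ 5 + ((p ^ a : ℕ) : ℤ) ^ 6 := by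
  have hc : ∀ d, (((p ^ a) ^ d - 1 : ℕ) : ℤ) = ((p ^ a : ℕ) : ℤ) ^ d - 1 := fun d => by
    rw [Nat.cast_sub (Nat.one_le_pow _ _ (pow_pos hp.pos a))]
    push_cast
    ring
  have h1 := Int.natCast_dvd_natCast.2 ((dvd_iff_seven hp ha hr ho 7).2 (dvd_refl 7))
  have h2 : ¬ (r : ℤ) ∣ ((p ^ a : ℕ) : ℤ) ^ 1 - 1 := by
    rw [← hc, Int.natCast_dvd_natCast, dvd_iff_seven hp ha hr ho]
    norm_num
  rw [hc] at h1
  have e : ((p ^ a : ℕ) : ℤ) ^ 7 - 1 = (((p ^ a : ℕ) : ℤ) ^ 1 - 1) * (1 + ((p ^ a : ℕ) : ℤ) + ((p ^ a : ℕ) : ℤ) ^ 2 +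
    ((p ^ a : ℕ) : ℤ) ^ 3 + ((p ^ a : ℕ) : ℤ) ^ 4 + ((p ^ a : ℕ) : ℤ) ^ 5 + ((p ^ a : ℕ) : ℤ) ^ 6) := by ring
  rw [e] at h1
  exact ((Nat.prime_iff_prime_int.1 hr).dvd_or_dvd h1).resolve_left h2

end Arith

/-- **The rank one configuration of `E₈(q)`.** -/
theorem rankOneAt_E8 {F : Type u} [Field F] [Fintype F] {p a : ℕ} (hp : p.Prime) (ha : 0 < a)
    (hF : Fintype.card F = p ^ a) {r : ℕ} (hr : r.Prime) (ho : orderOf (p : ZMod r) = 7 * a) :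
    RankOneAt ↥(chevE8.group F) p r (p ^ a) := by
  obtain ⟨-, hrp⟩ := seven_dvd ha hr ho
  have h29 := r_ge ha hr ho
  have hd := dvd_iff_seven hp ha hr ho
  have hq1 : 1 ≤ (p ^ a) ^ 7 := Nat.one_le_pow _ _ (pow_pos hp.pos a)
  have hq7 : (p ^ a) ^ 7 - 1 ≠ 0 := by
    have h1 : 2 ≤ p ^ a := hp.two_le.trans (Nat.le_self_pow ha.ne' p)
    have h2 : p ^ a ≤ (p ^ a) ^ 7 := Nat.le_self_pow (by norm_num) _
    omega
  obtain ⟨n, m', hm', hn⟩ := Nat.exists_eq_pow_mul_and_not_dvd hq7 r hr.ne_one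
  obtain ⟨b, rfl⟩ : ∃ b, n = b + 1 := by
    refine Nat.exists_eq_succ_of_ne_zero ?_
    rintro rfl
    rw [pow_zero, one_mul] at hn
    exact hm' (by rw [← hn]; exact (hd 7).2 (dvd_refl 7))
  have hnot : ∀ d, ¬ 7 ∣ d → ¬ r ∣ (p ^ a) ^ d - 1 := fun d h h1 => h ((hd d).1 h1)
  have hrpa : ¬ r ∣ p ^ a := fun h => hrp (hr.dvd_of_dvd_pow h)
  have h14 : (p ^ a) ^ 14 - 1 = (r ^ (b + 1) * m') * ((p ^ a) ^ 7 + 1) := by
    rw [← hn]
    obtain ⟨c, hc⟩ : ∃ c, (p ^ a) ^ 7 = c + 1 := ⟨(p ^ a) ^ 7 - 1, by omega⟩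
    have e : (p ^ a) ^ 14 = ((p ^ a) ^ 7) ^ 2 := by rw [← pow_mul (p ^ a) 7 2]
    rw [e, hc, Nat.add_sub_cancel, show (c + 1) ^ 2 = c * (c + 1 + 1) + 1 by ring, Nat.add_sub_cancel]
  have h7p : ¬ r ∣ (p ^ a) ^ 7 + 1 := by
    intro h1
    have h2 := (Nat.dvd_sub h1 ((hd 7).2 (dvd_refl 7)))
    have h3 : (p ^ a) ^ 7 + 1 - ((p ^ a) ^ 7 - 1) = 2 := by omega
    rw [h3] at h2
    have := Nat.le_of_dvd (by norm_num) h2
    omega
  have hcard := Cfsg.Agent.S1065.result hF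
  have hfin : Finite CoxeterMatrix.E₈.Group := finite_W e8T CoxeterMatrix.E₈.toCoxeterSystem
  refine Rk.rankOneAt_chev e8T CoxeterMatrix.E₈.toCoxeterSystem (W := CoxeterMatrix.E₈.Group) hp hF
    Cfsg.Agent.H129.TorusChar.invC_E8 (j := 0) (i0 := 2) ?_ (L := word) word_ne
    (fun i hi m n hm hn => no_root _ hi hm hn) (Gh ((p ^ a : ℕ) : ℤ)) (b := b)
    (m := (p ^ a) ^ 120 * ((p ^ a) ^ 2 - 1) * ((p ^ a) ^ 8 - 1) * ((p ^ a) ^ 12 - 1) * (m' * ((p ^ a) ^ 7 + 1)) *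
      ((p ^ a) ^ 18 - 1) * ((p ^ a) ^ 20 - 1) * ((p ^ a) ^ 24 - 1) * ((p ^ a) ^ 30 - 1)) hr ?_ ?_ (by omega)
    (totient_gt ha hr ho) ?_ ?_ ?_ ?_ ?_ ?_
  · unfold CoxeterGeom.pairing
    rw [Finset.sum_eq_single 2]
    · rw [sr_self, mul_one, ← hA, Am_two]
    · intro m _ hm; rw [sr_ne hm, mul_zero]
    · intro hj; exact absurd (Finset.mem_univ _) hj
  · rintro rfl
    exact hrp (dvd_refl _)
  · intro h
    have := Cfsg.Agent.H378.LatCodim.le_of_dvd_card CoxeterMatrix.E₈.toCoxeterSystem e8T.isCartan hr h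
    omega
  · intro x
    have h1 := Gf_theta (lin8 CoxeterMatrix.E₈.toCoxeterSystem) ((p ^ a : ℕ) : ℤ) x
    have h2 : Gh ((p ^ a : ℕ) : ℤ) (rep CoxeterMatrix.E₈.toCoxeterSystem e8T.isCartan
        (CoxeterMatrix.E₈.toCoxeterSystem.wordProd word) x) - ((p ^ a : ℕ) : ℤ) * Gh ((p ^ a : ℕ) : ℤ) x =
        x 1 * (1 - ((p ^ a : ℕ) : ℤ) ^ 7) := by
      rw [Gh_apply, Gh_apply]
      rw [theta_apply, AddEquiv.refl_apply] at h1
      rw [h1]
      ring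
    rw [h2]
    have h3 : ((r ^ (b + 1) : ℕ) : ℤ) ∣ (((p ^ a) ^ 7 - 1 : ℕ) : ℤ) := Int.natCast_dvd_natCast.2 (by
      rw [hn]; exact Dvd.intro _ rfl)
    rw [Nat.cast_sub hq1] at h3
    refine Dvd.dvd.mul_left ?_ _
    rw [← dvd_neg, neg_sub]
    exact_mod_cast h3
  · have h1 : Gh ((p ^ a : ℕ) : ℤ) (sr 0) = 0 := by
      rw [Gh_apply, sr0]
      simp [Gf, cf, Fin.sum_univ_succ]
    rw [h1]
    exact dvd_zero _
  · intro x hx h1 h2
    rcases not_dvd_Gf CoxeterMatrix.E₈.toCoxeterSystem hr (fun h => by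
      have := Nat.le_of_dvd (by norm_num) h; omega) (dvd_phi hp ha hr ho) hx with h | h | h
    · exact absurd h h1
    · exact absurd h h2
    · exact h
  · rw [hcard, h14]
    ring
  · simp only [hr.dvd_mul, not_or]
    refine ⟨⟨⟨⟨⟨⟨⟨⟨fun h => hrpa (hr.dvd_of_dvd_pow h), hnot 2 (by norm_num)⟩, hnot 8 (by norm_num)⟩,
      hnot 12 (by norm_num)⟩, hm', h7p⟩, hnot 18 (by norm_num)⟩, hnot 20 (by norm_num)⟩, hnot 24 (by norm_num)⟩,
      hnot 30 (by norm_num)⟩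
  · rw [hr.dvd_mul, not_or]
    exact ⟨hrpa, hnot 2 (by norm_num)⟩

end Cfsg.Agent.H448.Van
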