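import Cfsg.Agent.H730.OZ.Asm
import Cfsg.Agent.H279.OZ.Kaw
import Cfsg.Agent.Nodes.RGDTwAll
import Cfsg.Agent.H695.OneZero.E8Row
import Cfsg.Agent.H448.Van.RkE8

/-!
# S4842: the row `E₈` without hypotheses (helper448, endgame of helper695)
-/

set_option autoImplicit false

open Cfsg

namespace Cfsg.Agent.H448.Van

universe u

/-- **`E₈(q)`**, all `q`. -/
theorem row_e8 {S : Type u} [Group S] [Finite S] (hs : IsSimpleGroup S) (h : Lie.IsoE8 S) : H730.OZ.Row S := by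
  obtain ⟨F, i1, i2, ⟨e⟩⟩ := h
  obtain ⟨p, hc⟩ := CharP.exists F
  obtain ⟨a, hp, ha⟩ := FiniteField.card F p
  have : Fact p.Prime := ⟨hp⟩
  have hs' : IsSimpleGroup ↥(Lie.chevE8.group F) := (MulEquiv.isSimpleGroup_congr e).1 hs
  exact H730.OZ.Row.congr e (H730.OZ.Row.of_none (H695.OneZero.none_E8_of' hs' hp a.pos ha
    (H279.OZ.kaw_of_hasRGD hp (Nodes.RGDChev.hasRGD_E8 F p)) fun r hr ho => rankOneAt_E8 hp a.pos ha hr ho))

end Cfsg.Agent.H448.Van
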